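import Cfsg.Agent.Cit.Nil.CVT.Sub

/-!
# (6b)(CV), components of type `A2`: the interface

`Lkd Om K L` : linked members (different, `zz K`, `zz L` commute, not orthogonal);
`Cl Om` : the class relation (chains of linked members);
`Elem Om U` : the elementary facts (E) of `blueprints/CIT-6b-CV-A2-helper256.md` (v2), proved for `CVA.AW Om U` elsewhere.
-/

set_option autoImplicit false
set_option linter.style.haveILetI false
set_option linter.unusedSectionVars false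

namespace Cfsg.Agent.Cit.Nil.CVA2

open Subgroup Cfsg Cit Tau CV CV1 CVT

variable {G : Type*} [Group G] {Om : Set (Subgroup G)} {U : Subgroup G → Subgroup G} {A K L M N T X : Subgroup G}
  {g : G}

/-- linked members -/
structure Lkd (Om : Set (Subgroup G)) (K L : Subgroup G) : Prop where
  mK : K ∈ Om
  mL : L ∈ Om
  ne : K ≠ L
  comm : zz K * zz L = zz L * zz K
  north : ¬ Orth K L

/-- the class relation -/
def Cl (Om : Set (Subgroup G)) : Subgroup G → Subgroup G → Prop := Relation.ReflTransGen (Lkd Om)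

/-- **the elementary facts (E)** -/
structure Elem (Om : Set (Subgroup G)) (U : Subgroup G → Subgroup G) : Prop where
  cvw : CVW Om U
  /-- E1 -/
  inj : ∀ K ∈ Om, ∀ L ∈ Om, zz K = zz L → K = L
  /-- E2 -/
  commV : ∀ K ∈ Om, ∀ L ∈ Om, zz K * zz L = zz L * zz K → ∀ v ∈ U K, ∀ w ∈ U L, v * w = w * v
  /-- E2b, E2e -/
  third : ∀ K L, Lkd Om K L → ∃ M, Lkd Om K M ∧ Lkd Om L M ∧ zz M = zz K * zz L ∧ (∃ y ∈ L, M = cj y K) ∧ U M ≤ U K ⊔ U L
  /-- E2c -/
  moves : ∀ K L, Lkd Om K L → ∃ y ∈ L, y * zz K ≠ zz K * y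
  /-- E2d -/
  link : ∀ K L M, Lkd Om K L → Lkd Om K M → zz L * zz M = zz M * zz L → ¬ Orth L M
  /-- E2d: at most three pairwise linked members -/
  four : ∀ K L M N, Lkd Om K L → Lkd Om K M → Lkd Om K N → Lkd Om L M → Lkd Om L N → Lkd Om M N → False
  /-- E2e -/
  sign : ∀ K L, Lkd Om K L → ∀ g : G, g * zz K = zz K * g → g * zz L = zz L * g → ∀ v ∈ U K, orderOf v = 4 →
    ∀ w ∈ U L, orderOf w = 4 → (g * v * g⁻¹ = v ↔ g * w * g⁻¹ = w)
  /-- E4 -/
  omul : ∀ K ∈ Om, ∀ L ∈ Om, Orth K L → ∀ M ∈ Om, zz M ≠ zz K * zz L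
  /-- E3 -/
  trans : ∀ T : Subgroup G, IsPGroup 2 T → ∀ K ∈ Om, ∀ L ∈ Om, ∀ M ∈ Om, zz K ∈ T → zz L ∈ T → zz M ∈ T →
    ¬ Orth K L → ¬ Orth L M → ¬ Orth K M
  /-- E3' -/
  chain : ∀ T : Subgroup G, IsPGroup 2 T → ∀ K ∈ Om, ∀ L ∈ Om, zz K ∈ T → zz L ∈ T → ¬ Orth K L → Cl Om K L
  /-- E5: every involution of `A` centralises a member of every component -/
  cent : ∀ A, IsA Om U A → ∀ e ∈ A, e * e = 1 → ∀ K ∈ Om, U K ≤ A → ∃ L ∈ Om, U L ≤ A ∧ Cl Om K L ∧ ∀ x ∈ L, x * e = e * x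
  /-- P: every member with `zz K ∈ T` is equal or linked to one with `U L ≤ A` -/
  rep : ∀ S : Sylow 2 G, ∀ K ∈ Om, zz K ∈ (S : Subgroup G) → ∃ L ∈ Om, U L ≤ WW Om U (S : Subgroup G) ∧ ¬ Orth K L
  /-- E6 -/
  fixz : ∀ S : Sylow 2 G, ∀ g ∈ (S : Subgroup G), ∀ K ∈ Om, U K ≤ WW Om U (S : Subgroup G) → ¬ Orth K (cj g K) →
    ∃ L ∈ Om, U L ≤ WW Om U (S : Subgroup G) ∧ Cl Om K L ∧ g * zz L = zz L * g
  /-- NS: the elements `zz N` of a Sylow group do not move the components -/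
  noswap : ∀ T : Subgroup G, IsPGroup 2 T → ∀ N ∈ Om, zz N ∈ T → ∀ K ∈ Om, zz K ∈ T → ¬ Orth K (cj (zz N) K)
  /-- counting: `Finset`s of pairwise orthogonal members of `A`, fixed points of an involution -/
  count : ∀ A, IsA Om U A → ∀ g ∈ normalizer (A : Set G), g * g = 1 → ∀ J : Finset (Subgroup G),
    (∀ K ∈ J, K ∈ Om ∧ U K ≤ A) → (∀ K ∈ J, ∀ L ∈ J, K ≠ L → Orth K L) →
    2 ^ J.card ≤ Nat.card {e : G // e ∈ A ∧ e * e = 1 ∧ g * e = e * g}

/-! ### Conjugation -/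

variable [Finite G]

theorem orth_cj_iff : Orth (cj g K) (cj g L) ↔ Orth K L := by
  refine ⟨fun h => ?_, fun h => orth_cj h g⟩
  have h1 := orth_cj h g⁻¹
  rwa [cj_inv_cj, cj_inv_cj] at h1

theorem Orth.symm' (h : Orth K L) : Orth L K := ⟨fun e => h.1 e.symm, fun x hx y hy => (h.2 y hy x hx).symm⟩

theorem zz_cj' (h : Hyp Om) (hK : K ∈ Om) (g : G) : zz (cj g K) = g * zz K * g⁻¹ := (h.zz_cj hK g)

theorem Lkd.symm (h : Lkd Om K L) : Lkd Om L K := ⟨h.mL, h.mK, h.ne.symm, h.comm.symm, fun hh => h.north (Orth.symm' hh)⟩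

theorem Lkd.cj (hyp : Hyp Om) (h : Lkd Om K L) (g : G) : Lkd Om (cj g K) (cj g L) where
  mK := hyp.conj K h.mK g
  mL := hyp.conj L h.mL g
  ne := fun hh => h.ne (cj_inj.1 hh)
  comm := by
    rw [zz_cj' hyp h.mK, zz_cj' hyp h.mL]
    calc g * zz K * g⁻¹ * (g * zz L * g⁻¹) = g * (zz K * zz L) * g⁻¹ := by group
      _ = g * (zz L * zz K) * g⁻¹ := by rw [h.comm]
      _ = g * zz L * g⁻¹ * (g * zz K * g⁻¹) := by group
  north := fun hh => h.north (orth_cj_iff.1 hh)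

theorem Cl.refl (K : Subgroup G) : Cl Om K K := Relation.ReflTransGen.refl

theorem Cl.trans (h1 : Cl Om K L) (h2 : Cl Om L M) : Cl Om K M := Relation.ReflTransGen.trans h1 h2

theorem Cl.symm (h : Cl Om K L) : Cl Om L K := by
  induction h with
  | refl => exact Relation.ReflTransGen.refl
  | tail _ h2 ih => exact (Relation.ReflTransGen.single h2.symm).trans ih

theorem Cl.step (h : Lkd Om K L) : Cl Om K L := Relation.ReflTransGen.single h

theorem Cl.cj (hyp : Hyp Om) (h : Cl Om K L) (g : G) : Cl Om (cj g K) (cj g L) := by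
  induction h with
  | refl => exact Relation.ReflTransGen.refl
  | tail _ h2 ih => exact ih.tail (h2.cj hyp g)

theorem Cl.mem (h : Cl Om K L) (hK : K ∈ Om) : L ∈ Om := by
  induction h with
  | refl => exact hK
  | tail _ h2 _ => exact h2.mL

namespace Elem

variable (e : Elem Om U)

include e

/-- an element commuting with `zz K` normalises `K` -/
theorem cj_eq (hK : K ∈ Om) (hg : g * zz K = zz K * g) : cj g K = K := by
  apply e.inj _ (e.cvw.hyp.conj K hK g) _ hK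
  rw [zz_cj' e.cvw.hyp hK, hg, mul_inv_cancel_right]

theorem norm (hK : K ∈ Om) (hg : g * zz K = zz K * g) : g ∈ normalizer (K : Set G) :=
  mem_normalizer_iff_cj.2 (e.cj_eq hK hg)

/-- different members with commuting `zz`s are orthogonal or linked -/
theorem orth_or (hK : K ∈ Om) (hL : L ∈ Om) (hc : zz K * zz L = zz L * zz K) : K = L ∨ Orth K L ∨ Lkd Om K L := by
  by_cases h1 : K = L
  · exact Or.inl h1
  by_cases h2 : Orth K L
  · exact Or.inr (Or.inl h2)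
  · exact Or.inr (Or.inr ⟨hK, hL, h1, hc, h2⟩)

end Elem

end Cfsg.Agent.Cit.Nil.CVA2
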