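import Cfsg.Agent.Cit.Nil.CVA2.Lift

/-!
# (6b)(CV), components of type `A2`: the blocks lie in one class (CONN)

* `conn_nil` : the case `zz K ∈ O_2(X)`;
* `Conn0Stmt`, `ElemStmt` : (CONN0), (E);
* `exists_quot` : the quotient `X / O_2(X)` if `zz K ∉ O_2(X)`;
* `conn` : **all members of the block of `K` in `X` lie in the class of `K`**.
-/

set_option autoImplicit false
set_option linter.style.haveILetI false
set_option linter.unusedSectionVars false

namespace Cfsg.Agent.Cit.Nil.CVA2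

open Subgroup Cfsg Cit Tau CV CV1 CVT Cfsg.Agent.Cit.Comp
open Cfsg.Agent.Cit.Nil.ROne (FSimp)

universe u

/-! ### The nilpotent case -/

section nil

variable {G : Type*} [Group G] [Finite G] {Om : Set (Subgroup G)} {U : Subgroup G → Subgroup G}
  {A H K L M N T X : Subgroup G} {g v w x y : G}

/-- the elements of `X` which preserve the classes of the members of the block -/
def stab (Om : Set (Subgroup G)) (hyp : Hyp Om) (K X : Subgroup G) : Subgroup X where
  carrier := {g | ∀ L ∈ BL K X, Cl Om L (cj (g : G) L)}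
  one_mem' := fun L _ => by
    rw [Subgroup.coe_one, cj_one]
    exact Cl.refl L
  mul_mem' := by
    intro a b ha hb L hL
    have h1 : cj (b : G) L ∈ BL K X := by
      obtain ⟨c, hc, rfl⟩ := hL
      exact ⟨b * c, X.mul_mem b.2 hc, by rw [cj_mul]⟩
    rw [Subgroup.coe_mul, cj_mul]
    exact (hb L hL).trans (ha _ h1)
  inv_mem' := by
    intro a ha L hL
    have h1 : cj ((a : G)⁻¹) L ∈ BL K X := by
      obtain ⟨c, hc, rfl⟩ := hL
      exact ⟨(a : G)⁻¹ * c, X.mul_mem (X.inv_mem a.2) hc, by rw [cj_mul]⟩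
    have h2 := ha _ h1
    rw [cj_cj_inv] at h2
    rw [Subgroup.coe_inv]
    exact h2.symm

/-- the case `zz K ∈ O_2(X)` -/
theorem conn_nil (e : Elem Om U) (hK : K ∈ Om) (hKX : K ≤ X)
    (hgen : normalClosure ((K.subgroupOf X : Subgroup X) : Set X) = ⊤)
    (hz : zz (K.subgroupOf X) ∈ pCore 2 X) : ∀ L ∈ BL K X, Cl Om K L := by
  have hyp := e.cvw.hyp
  have hmem : ∀ L ∈ BL K X, L ∈ Om := fun L hL => BL_mem e.cvw hK hL
  -- the `zz`s lie in `O_2(X)`
  have hzT : ∀ L ∈ BL K X, zz L ∈ (pCore 2 X).map X.subtype := by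
    rintro _ ⟨g, hg, rfl⟩
    rw [hyp.zz_cj hK]
    have h1 := zz_map hyp (subgroupOf_mem_restr hK hKX)
    rw [map_subgroupOf_eq_of_le hKX] at h1
    refine ⟨⟨g, hg⟩ * zz (K.subgroupOf X) * ⟨g, hg⟩⁻¹, (Lib.Cores.pCore_normal 2).conj_mem _ hz _, ?_⟩
    change g * ((zz (K.subgroupOf X) : X) : G) * g⁻¹ = _
    rw [h1]
  have hT : IsPGroup 2 ((pCore 2 X).map X.subtype) := by
    haveI : Fact (Nat.Prime 2) := ⟨Nat.prime_two⟩
    exact (Lib.Cores.pCore_isPGroup 2).map _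
  -- the members of the block lie in the stabiliser
  have hst : ∀ M ∈ BL K X, ∀ y ∈ M, ∀ L ∈ BL K X, Cl Om L (cj y L) := by
    intro M hM y hy L hL
    by_cases ho : Orth L M
    · have h1 : cj y L = L := by
        refine mem_normalizer_iff_cj.1 ?_
        rw [mem_normalizer_iff]
        intro x
        constructor
        · intro hx
          rw [← ho.2 x hx y hy, mul_inv_cancel_right]
          exact hx
        · intro hx
          have h2 := ho.2 _ hx y hy
          have h3 : x = y * x * y⁻¹ := by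
            have h4 : y⁻¹ * (y * x * y⁻¹ * y) * y⁻¹ = y⁻¹ * (y * (y * x * y⁻¹)) * y⁻¹ := by rw [h2]
            have h5 : y⁻¹ * (y * x * y⁻¹ * y) * y⁻¹ = x * y⁻¹ := by group
            have h6 : y⁻¹ * (y * (y * x * y⁻¹)) * y⁻¹ = y * x * y⁻¹ * y⁻¹ := by group
            rw [h5, h6] at h4
            exact mul_right_cancel h4
          rw [h3]
          exact hx
      rw [h1]
      exact Cl.refl L
    · have h1 : Cl Om L M := e.chain _ hT L (hmem L hL) M (hmem M hM) (hzT L hL) (hzT M hM) ho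
      have h2 := h1.cj hyp y
      rw [mem_normalizer_iff_cj.1 (le_normalizer hy)] at h2
      exact h1.trans h2.symm
  have htop : stab Om hyp K X = ⊤ := by
    rw [eq_top_iff, ← hgen, normalClosure, closure_le]
    intro x hx
    rw [Group.mem_conjugatesOfSet_iff] at hx
    obtain ⟨a, ha, hax⟩ := hx
    obtain ⟨g, rfl⟩ := isConj_iff.1 hax
    intro L hL
    refine hst (cj (g : G) K) ⟨g, g.2, rfl⟩ _ ?_ L hL
    exact conj_mem_cj (mem_subgroupOf.1 ha)
  rintro _ ⟨g, hg, rfl⟩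
  have h1 : (⟨g, hg⟩ : X) ∈ stab Om hyp K X := by rw [htop]; exact mem_top _
  exact h1 K self_mem_BL

end nil

/-! ### The statements (CONN0) and (E) -/

/-- (CONN0) -/
def Conn0Stmt : Prop := ∀ (G : Type u) [Group G] [Finite G] (Om : Set (Subgroup G)) (U : Subgroup G → Subgroup G)
  (F : Subgroup G), Elem Om U → (∀ K ∈ Om, ∀ L ∈ Om, ∃ g, L = cj g K) → Om.Nonempty → FSimp F →
  pPrimeCore 2 G = ⊥ → EvQ G → (∀ K ∈ Om, ∀ L ∈ Om, ¬ Orth K L) → ∀ (r : Subgroup G → Subgroup G → Prop),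
  (∀ K L, r K L → r L K) → (∀ K L M, r K L → r L M → r K M) → (∀ K ∈ Om, r K K) →
  (∀ g K L, r K L → r (cj g K) (cj g L)) → (∀ K L, Lkd Om K L → r K L) → ∀ K ∈ Om, ∀ L ∈ Om, r K L

/-- (E) -/
def ElemStmt : Prop := ∀ (G : Type u) [Group G] [Finite G] (Om : Set (Subgroup G)) (U : Subgroup G → Subgroup G),
  CVA.AW Om U → Elem Om U

/-! ### The quotient by `O_2(X)` -/

section quot

variable {G : Type u} [Group G] [Finite G] {Om : Set (Subgroup G)} {U : Subgroup G → Subgroup G}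
  {A H K L M N T X : Subgroup G} {g v w x y : G}

/-- `O_2(X / O_2(X)) = 1` -/
theorem pCore_quot {X : Type*} [Group X] [Finite X] {X' : Type*} [Group X'] [Finite X'] {f : X →* X'}
    (hf : Function.Surjective f) (hker : f.ker = pCore 2 X) : pCore 2 X' = ⊥ := by
  haveI : Fact (Nat.Prime 2) := ⟨Nat.prime_two⟩
  have h5 : (pCore 2 X').comap f ≤ pCore 2 X := by
    refine Lib.Cores.le_pCore ((Lib.Cores.pCore_normal 2).comap _) ?_
    refine (Lib.Cores.pCore_isPGroup 2).comap_of_ker_isPGroup _ ?_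
    rw [hker]
    exact Lib.Cores.pCore_isPGroup 2
  rw [eq_bot_iff]
  intro y hy
  obtain ⟨x, rfl⟩ := hf y
  have h6 : x ∈ f.ker := by rw [hker]; exact h5 hy
  exact mem_bot.2 (MonoidHom.mem_ker.1 h6)

/-- **the quotient world**: the data for a member `K` of `X` with `zz K ∉ O_2(X)` -/
structure QX (Om : Set (Subgroup G)) (U : Subgroup G → Subgroup G) (X K : Subgroup G) {X' : Type u} [Group X']
    (f : X →* X') (F : Subgroup X') : Prop extends LX Om U X K f where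
  ker : f.ker = pCore 2 X
  O1 : pPrimeCore 2 X' = ⊥
  O2 : pCore 2 X' = ⊥
  fs : FSimp F
  no' : ∀ L' ∈ cls ((K.subgroupOf X).map f), ∀ M' ∈ cls ((K.subgroupOf X).map f), ¬ Orth L' M'
  hex : ∃ L' ∈ cls ((K.subgroupOf X).map f), ∃ M' ∈ cls ((K.subgroupOf X).map f), L' ≠ M' ∧
      zz L' * zz M' = zz M' * zz L'
  e' : Elem (cls ((K.subgroupOf X).map f)) (imgU f (cls (K.subgroupOf X)) (uH X U))

theorem exists_quot (hE : ElemStmt.{u}) (hev : ∀ (G : Type u) [Group G] [Finite G], EvQ G) (e : Elem Om U)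
    (ih : TLt.{u} (Nat.card G)) (hK : K ∈ Om) (hKX : K ≤ X) (tw : TW (K.subgroupOf X) (uH X U)) (hX : X ≠ ⊤)
    (hz : zz (K.subgroupOf X) ∉ pCore 2 X) :
    ∃ (X' : Type u) (_ : Group X') (_ : Finite X') (f : X →* X') (F : Subgroup X'), QX Om U X K f F := by
  haveI : Fact (Nat.Prime 2) := ⟨Nat.prime_two⟩
  haveI hPn : (pCore 2 X).Normal := Lib.Cores.pCore_normal 2
  have hcard : Nat.card X < Nat.card G := by
    rw [← card_top (G := G)]
    have h2 : (X : Set G) ⊂ ((⊤ : Subgroup G) : Set G) := by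
      rw [Set.ssubset_def]
      refine ⟨fun x _ => mem_top x, fun hh => hX ?_⟩
      rw [eq_top_iff]
      exact hh
    exact Set.Finite.card_lt_card (Set.toFinite _) h2
  obtain ⟨f, hf⟩ : ∃ f, f = QuotientGroup.mk' (pCore 2 X) := ⟨_, rfl⟩
  have hsur : Function.Surjective f := by rw [hf]; exact QuotientGroup.mk'_surjective _
  have hker : f.ker = pCore 2 X := by rw [hf]; exact QuotientGroup.ker_mk' _
  have hcen := core_central tw hz
  have htwo : IsPGroup 2 f.ker := by rw [hker]; exact Lib.Cores.pCore_isPGroup 2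
  have hno : ∀ L ∈ cls (K.subgroupOf X), ∀ M ∈ cls (K.subgroupOf X), ¬ Orth L M := by
    have h1 := (ih X _ _ hcard tw).resolve_left hz
    rintro _ ⟨a, rfl⟩ M hM ho
    have h2 : Orth (K.subgroupOf X) (cj a⁻¹ M) := by
      have h3 := orth_cj ho a⁻¹
      rwa [cj_inv_cj] at h3
    refine h1 _ ?_ h2
    obtain ⟨b, rfl⟩ := hM
    exact ⟨a⁻¹ * b, by rw [cj_mul]⟩
  have c : LX Om U X K f :=
    { e := e, hK := hK, KX := hKX, tw := tw, no := hno, sur := hsur, cen := by rw [hker]; exact hcen,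
      two := htwo, hz := by rw [hker]; exact hz }
  have tw' : TW ((K.subgroupOf X).map f) (imgU f (cls (K.subgroupOf X)) (uH X U)) := c.tw'
  have hz' : zz ((K.subgroupOf X).map f) ∉ pCore 2 (X ⧸ pCore 2 X) := not_mem_pCore_quot tw hz hsur hker
  have hcard' : Nat.card (X ⧸ pCore 2 X) < Nat.card G := by
    refine lt_of_le_of_lt ?_ hcard
    exact Nat.card_le_card_of_surjective f hsur
  have hno' : ∀ L' ∈ cls ((K.subgroupOf X).map f), ∀ M' ∈ cls ((K.subgroupOf X).map f), ¬ Orth L' M' := by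
    have h1 := (ih _ _ _ hcard' tw').resolve_left hz'
    rintro _ ⟨a, rfl⟩ M hM ho
    have h2 : Orth ((K.subgroupOf X).map f) (cj a⁻¹ M) := by
      have h3 := orth_cj ho a⁻¹
      rwa [cj_inv_cj] at h3
    refine h1 _ ?_ h2
    obtain ⟨b, rfl⟩ := hM
    exact ⟨a⁻¹ * b, by rw [cj_mul]⟩
  have hO2 := pCore_quot hsur hker
  obtain ⟨F, hF, -⟩ := exists_fsimp tw'.odd hO2 (hev _) tw'.cvw tw'.gen
  have hex : ∃ L' ∈ cls ((K.subgroupOf X).map f), ∃ M' ∈ cls ((K.subgroupOf X).map f), L' ≠ M' ∧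
      zz L' * zz M' = zz M' * zz L' := by
    have hKm := self_mem_cls ((K.subgroupOf X).map f)
    obtain ⟨E, hEc, hEz⟩ := exists_comp tw'.odd hO2 tw'.cvw hKm
    obtain ⟨x, -, h1, h2⟩ := exists_conj tw'.odd hO2 (hev _) tw'.cvw hKm hEc hEz
    refine ⟨_, hKm, cj x ((K.subgroupOf X).map f), ⟨x, rfl⟩, ?_, ?_⟩
    · intro h3
      apply h2
      rw [← tw'.cvw.hyp.zz_cj hKm, ← h3]
    · rw [tw'.cvw.hyp.zz_cj hKm]
      exact h1
  exact ⟨_, inferInstance, inferInstance, f, F,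
    { toLX := c, ker := hker, O1 := tw'.odd, O2 := hO2, fs := hF, no' := hno', hex := hex,
      e' := hE _ _ _ (c.aw hno' hex) }⟩

/-- (CONN) in the quotient -/
theorem QX.conn (h0 : Conn0Stmt.{u}) (hev : ∀ (G : Type u) [Group G] [Finite G], EvQ G) {X' : Type u} [Group X']
    [Finite X'] {f : X →* X'} {F : Subgroup X'} (q : QX Om U X K f F) {L : Subgroup X}
    (hL : L ∈ cls (K.subgroupOf X)) : Cl Om K (L.map X.subtype) := by
  have c := q.toLX
  have hyp := q.e.cvw.hyp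
  obtain ⟨r, hr⟩ : ∃ r : Subgroup X' → Subgroup X' → Prop, r = fun A B => ∃ L ∈ cls (K.subgroupOf X),
      ∃ M ∈ cls (K.subgroupOf X), A = L.map f ∧ B = M.map f ∧ Cl Om (L.map X.subtype) (M.map X.subtype) := ⟨_, rfl⟩
  have h1 := h0 X' _ _ F q.e' (by
    rintro _ ⟨a, rfl⟩ _ ⟨b, rfl⟩
    exact ⟨b * a⁻¹, by rw [← cj_mul, inv_mul_cancel_right]⟩) ⟨_, self_mem_cls _⟩ q.fs q.O1 (hev X') q.no' r
    (by
      rw [hr]
      rintro A B ⟨L, hL, M, hM, h2, h3, h4⟩
      exact ⟨M, hM, L, hL, h3, h2, h4.symm⟩)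
    (by
      rw [hr]
      rintro A B C ⟨L, hL, M, hM, h2, h3, h4⟩ ⟨M', hM', N, hN, h5, h6, h7⟩
      have h8 : M = M' := c.map_inj hM hM' (by rw [← h3, h5])
      subst h8
      exact ⟨L, hL, N, hN, h2, h6, h4.trans h7⟩)
    (by
      rw [hr]
      intro A hA
      obtain ⟨L, hL, rfl⟩ := c.exists_pre hA
      exact ⟨L, hL, L, hL, rfl, rfl, Cl.refl _⟩)
    (by
      rw [hr]
      rintro g' A B ⟨L, hL, M, hM, rfl, rfl, h4⟩
      obtain ⟨g, rfl⟩ := c.sur g'
      refine ⟨cj g L, c.tw.cvw.hyp.conj L hL g, cj g M, c.tw.cvw.hyp.conj M hM g, by rw [cj_map], by rw [cj_map], ?_⟩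
      have h5 := h4.cj hyp (g : G)
      rw [cj_map, cj_map]
      exact h5)
    (by
      rw [hr]
      intro A B h2
      obtain ⟨L, hL, rfl⟩ := c.exists_pre h2.mK
      obtain ⟨M, hM, rfl⟩ := c.exists_pre h2.mL
      have h3 := h2.comm
      rw [c.zz_map' hL, c.zz_map' hM] at h3
      exact ⟨L, hL, M, hM, rfl, rfl, Cl.step (c.lkd hL hM (fun h => h2.ne (by rw [h])) (c.lift hL hM h3))⟩)
    ((K.subgroupOf X).map f) (self_mem_cls _) (L.map f) (by
      rw [← img_cls c.sur]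
      exact ⟨L, hL, rfl⟩)
  rw [hr] at h1
  obtain ⟨L1, hL1, M1, hM1, h2, h3, h4⟩ := h1
  have h5 : K.subgroupOf X = L1 := c.map_inj (self_mem_cls _) hL1 h2
  have h6 : L = M1 := c.map_inj hL hM1 h3
  rw [← h5, ← h6, map_subgroupOf_eq_of_le q.KX] at h4
  exact h4

/-- **(CONN)**: the block of `K` lies in the class of `K` -/
theorem conn (hE : ElemStmt.{u}) (h0 : Conn0Stmt.{u}) (hev : ∀ (G : Type u) [Group G] [Finite G], EvQ G)
    (e : Elem Om U) (ih : TLt.{u} (Nat.card G)) (hX : SNC H K X) (hK : K ∈ Om) (hH : pPrimeCore 2 H = ⊥)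
    (hXt : X ≠ ⊤) : ∀ L ∈ BL K X, Cl Om K L := by
  have tw : TW (K.subgroupOf X) (uH X U) := hX.tw e.cvw hK hH
  by_cases hz : zz (K.subgroupOf X) ∈ pCore 2 X
  · exact conn_nil e hK hX.KX hX.gen hz
  · obtain ⟨X', i1, i2, f, F, q⟩ := exists_quot hE hev e ih hK hX.KX tw hXt hz
    intro L hL
    have h1 := q.conn h0 hev (subgroupOf_mem_cls hX.KX hL)
    rwa [map_subgroupOf_eq_of_le (BL_le hX.KX hL)] at h1

end quot

end Cfsg.Agent.Cit.Nil.CVA2
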