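import Cfsg.Agent.Cit.Nil.CVA2.Conn0
import Cfsg.Agent.Cit.Nil.CVA2.Conn

/-!
# (6b)(CV), components of type `A2`: `Conn0Stmt`
-/

set_option autoImplicit false

namespace Cfsg.Agent.Cit.Nil.CVA2

open Subgroup Cfsg Cit Tau CV CV1 CVT Cfsg.Agent.Cit.Comp

universe u

/-- **`Conn0Stmt`** -/
theorem conn0Stmt (h75 : ∀ (X : Type u) [Group X] [Finite X] [IsSimpleGroup X], CloEnd.Crit1175 X)
    (hB : ∀ (X : Type u) [Group X] [Finite X] [IsSimpleGroup X], CloEnd.Bend X) : Conn0Stmt.{u} := by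
  intro G _ _ Om U F e one hne f hO hev no r rs rt rr rc rl
  haveI := f.sim
  exact conn0 e one hne f hO hev no (h75 F) (hB F) rs rt rr rc rl

end Cfsg.Agent.Cit.Nil.CVA2
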