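import Cfsg.Agent.Cit.Nil.CVA2.EndA
import Cfsg.Agent.Cit.Nil.CV.TProdC
import Cfsg.Agent.Cit.CloEnd
import Cfsg.Agent.TwoFusion.StronglyEmbeddedBasic

/-!
# (6b)(CV), components of type `A2`: the end

`E0 Om U A` : generated by the `zz K`, `U K ≤ A`.  `Act Om U A K w` : `w` acts on the class of `K` as `1` or as `zz K'`.
`EW.act_of_mem`, `EW.two` : commuting elements `w`, `w'` of this kind: `w * w'` centralises a member of the class;
`EW.not_le` : `F` does not fix the block; `false_of`.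
-/

set_option autoImplicit false
set_option linter.style.haveILetI false
set_option linter.unusedSectionVars false

namespace Cfsg.Agent.Cit.Nil.CVA2

open Subgroup Cfsg Cit Tau CV CV1 CVT Cfsg.Agent.Cit.Nil.ROne

variable {G : Type*} [Group G] {Om : Set (Subgroup G)} {U : Subgroup G → Subgroup G}
  {A F H K L M N R S T X K' L' : Subgroup G} {c d e g s t u x y w₁ w₂ : G}

/-- generated by the `zz K`, `U K ≤ A` -/
def E0 (Om : Set (Subgroup G)) (U : Subgroup G → Subgroup G) (A : Subgroup G) : Subgroup G :=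
  closure {z | ∃ K ∈ Om, U K ≤ A ∧ z = zz K}

/-- `w` acts on the class of `K` as `1` or as `zz K'`, `K'` in the class -/
def Act (Om : Set (Subgroup G)) (U : Subgroup G → Subgroup G) (A K : Subgroup G) (g : G) : Prop :=
  ∃ c : G, (c = 1 ∨ ∃ K' ∈ Om, U K' ≤ A ∧ Cl Om K K' ∧ c = zz K') ∧ ∀ L, Cl Om K L → ∀ x ∈ L, x * (c * g) = c * g * x

variable [Finite G]

theorem cj_E0 (hyp : Hyp Om) (vch : VChoice Om U) (g : G) (hx : x ∈ E0 Om U A) : g * x * g⁻¹ ∈ E0 Om U (cj g A) := by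
  have h1 : E0 Om U A ≤ cj g⁻¹ (E0 Om U (cj g A)) := by
    rw [E0, closure_le]
    rintro z ⟨K, hK, hU, rfl⟩
    have h2 : g * zz K * g⁻¹ ∈ E0 Om U (cj g A) := by
      rw [← zz_cj' hyp hK]
      refine subset_closure ⟨cj g K, hyp.conj K hK g, ?_, rfl⟩
      rw [vch.cj K hK g]
      exact cj_mono g hU
    rw [SetLike.mem_coe, mem_cj, inv_inv]
    exact h2
  have h2 := h1 hx
  rwa [mem_cj, inv_inv] at h2

namespace EW

variable (w : EW Om U)
include w

theorem e0_le (A : Subgroup G) : E0 Om U A ≤ A := by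
  rw [E0, closure_le]
  rintro z ⟨K, hK, hU, rfl⟩
  exact w.zz_mem_A hK hU

theorem act_of_mem (hS : Syl S ⊤) (hK : K ∈ BS Om S) (hx : x ∈ E0 Om U (WW Om U S)) : Act Om U (WW Om U S) K x := by
  have hA := w.isA hS
  obtain ⟨K₁, hK₁, hU₁, hc₁⟩ := w.rep_of hS hK
  have hcA : ∀ {a b : G}, a ∈ WW Om U S → b ∈ WW Om U S → a * b = b * a := fun ha hb => w.el.cvw.comm hA ha hb
  have hcmem : ∀ {c : G}, (c = 1 ∨ ∃ K' ∈ Om, U K' ≤ WW Om U S ∧ Cl Om K K' ∧ c = zz K') → c ∈ WW Om U S ∧ c * c = 1 := by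
    rintro c (rfl | ⟨K', hK', hU', -, rfl⟩)
    · exact ⟨one_mem _, one_mul 1⟩
    · exact ⟨w.zz_mem_A hK' hU', w.hyp.zz_mul hK'⟩
  rw [E0] at hx
  induction hx using closure_induction with
  | mem z hz =>
    obtain ⟨M, hM, hU, rfl⟩ := hz
    by_cases hc : Cl Om K M
    · refine ⟨zz M, Or.inr ⟨M, hM, hU, hc, rfl⟩, fun L _ x _ => ?_⟩
      rw [w.hyp.zz_mul hM, mul_one, one_mul]
    · refine ⟨1, Or.inl rfl, fun L hL x hx => ?_⟩
      have h1 : Orth K₁ M := by
        by_contra ho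
        exact hc (hc₁.trans (w.el.chain S hS.2.1 K₁ hK₁ M hM (WW_le _ (w.zz_mem_A hK₁ hU₁))
          (WW_le _ (w.zz_mem_A hM hU)) ho))
      have h2 : Orth L M := w.orth_cl (hc₁.symm.trans hL) hM h1
      rw [one_mul]
      exact h2.2 x hx _ (w.hyp.zz_mem hM)
  | one => exact ⟨1, Or.inl rfl, fun L _ x _ => by rw [one_mul, mul_one, one_mul]⟩
  | mul a b ha hb iha ihb =>
    obtain ⟨c, hc, h1⟩ := iha
    obtain ⟨d, hd, h2⟩ := ihb
    have hda : d * a = a * d := hcA (hcmem hd).1 (w.e0_le _ ha)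
    have h3 : ∀ L, Cl Om K L → ∀ x ∈ L, x * (c * d * (a * b)) = c * d * (a * b) * x := by
      intro L hL x hx
      have e1 : c * d * (a * b) = (c * a) * (d * b) := by
        calc c * d * (a * b) = c * (d * a) * b := by group
          _ = (c * a) * (d * b) := by rw [hda]; group
      rw [e1]
      exact (Commute.mul_right (h1 L hL x hx) (h2 L hL x hx)).eq
    rcases hc with rfl | ⟨K', hK', hU', hc', rfl⟩
    · refine ⟨d, hd, ?_⟩
      rw [one_mul] at h3
      exact h3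
    · rcases hd with rfl | ⟨K'', hK'', hU'', hc'', rfl⟩
      · refine ⟨zz K', Or.inr ⟨K', hK', hU', hc', rfl⟩, ?_⟩
        rw [mul_one] at h3
        exact h3
      · by_cases hKK : K' = K''
        · subst hKK
          refine ⟨1, Or.inl rfl, ?_⟩
          rw [w.hyp.zz_mul hK'] at h3
          exact h3
        · have hl : Lkd Om K' K'' := ⟨hK', hK'', hKK, hcA (w.zz_mem_A hK' hU') (w.zz_mem_A hK'' hU''),
            w.not_orth hK'' (hc'.symm.trans hc'')⟩
          obtain ⟨M, hM1, -, hzM, -, hUM⟩ := w.el.third K' K'' hl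
          refine ⟨zz M, Or.inr ⟨M, hM1.mL, hUM.trans (sup_le hU' hU''), hc'.trans (Cl.step hM1), rfl⟩, ?_⟩
          rw [hzM]
          exact h3
  | inv a ha iha =>
    obtain ⟨c, hc, h1⟩ := iha
    refine ⟨c, hc, fun L hL x hx => ?_⟩
    obtain ⟨hcA', hcc⟩ := hcmem hc
    have e1 : c * a⁻¹ = (c * a)⁻¹ := by
      rw [mul_inv_rev, inv_eq_of_mul_eq_one_right hcc]
      exact hcA hcA' ((WW Om U S).inv_mem (w.e0_le _ ha))
    rw [e1]
    exact (Commute.inv_right (h1 L hL x hx)).eq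

/-- commuting elements acting on the class as `zz`s: the product centralises a member -/
theorem two {A₁ A₂ : Subgroup G} (hK : K ∈ Om) (h1 : Act Om U A₁ K w₁) (h2 : Act Om U A₂ K w₂)
    (hc : w₁ * w₂ = w₂ * w₁) : ∃ L ∈ Om, Cl Om K L ∧ ∀ x ∈ L, x * (w₁ * w₂) = w₁ * w₂ * x := by
  obtain ⟨c, hcc, h1⟩ := h1
  obtain ⟨d, hdd, h2⟩ := h2
  rcases hcc with rfl | ⟨K₁, hK₁, -, hc₁, rfl⟩
  · rcases hdd with rfl | ⟨K₂, hK₂, -, hc₂, rfl⟩
    · refine ⟨K, hK, Cl.refl K, fun x hx => ?_⟩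
      have e1 : Commute x w₁ := by have := h1 K (Cl.refl K) x hx; rwa [one_mul] at this
      have e2 : Commute x w₂ := by have := h2 K (Cl.refl K) x hx; rwa [one_mul] at this
      exact (e1.mul_right e2).eq
    · refine ⟨K₂, hK₂, hc₂, fun x hx => ?_⟩
      have e1 : Commute x w₁ := by have := h1 K₂ hc₂ x hx; rwa [one_mul] at this
      have e2 : Commute x (zz K₂ * w₂) := h2 K₂ hc₂ x hx
      have e3 : Commute x (zz K₂) := w.hyp.comm_zz hK₂ (le_normalizer hx)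
      have e4 : w₂ = zz K₂ * (zz K₂ * w₂) := by rw [← mul_assoc, w.hyp.zz_mul hK₂, one_mul]
      rw [e4]
      exact (e1.mul_right (e3.mul_right e2)).eq
  · rcases hdd with rfl | ⟨K₂, hK₂, -, hc₂, rfl⟩
    · refine ⟨K₁, hK₁, hc₁, fun x hx => ?_⟩
      have e1 : Commute x w₂ := by have := h2 K₁ hc₁ x hx; rwa [one_mul] at this
      have e2 : Commute x (zz K₁ * w₁) := h1 K₁ hc₁ x hx
      have e3 : Commute x (zz K₁) := w.hyp.comm_zz hK₁ (le_normalizer hx)
      have e4 : w₁ = zz K₁ * (zz K₁ * w₁) := by rw [← mul_assoc, w.hyp.zz_mul hK₁, one_mul]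
      rw [e4]
      exact ((e3.mul_right e2).mul_right e1).eq
    · obtain ⟨z₁, hz₁⟩ : ∃ z₁, z₁ = zz K₁ := ⟨_, rfl⟩
      obtain ⟨z₂, hz₂⟩ : ∃ z₂, z₂ = zz K₂ := ⟨_, rfl⟩
      rw [← hz₁] at h1
      rw [← hz₂] at h2
      have zz₁ : z₁ * z₁ = 1 := by rw [hz₁]; exact w.hyp.zz_mul hK₁
      have zz₂ : z₂ * z₂ = 1 := by rw [hz₂]; exact w.hyp.zz_mul hK₂
      have zi₁ : z₁⁻¹ = z₁ := inv_eq_of_mul_eq_one_right zz₁
      have zi₂ : z₂⁻¹ = z₂ := inv_eq_of_mul_eq_one_right zz₂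
      have m₁ : z₁ ∈ K₁ := by rw [hz₁]; exact w.hyp.zz_mem hK₁
      have m₂ : z₂ ∈ K₂ := by rw [hz₂]; exact w.hyp.zz_mem hK₂
      obtain ⟨a, ha⟩ : ∃ a, a = z₁ * w₁ := ⟨_, rfl⟩
      obtain ⟨b, hb⟩ : ∃ b, b = z₂ * w₂ := ⟨_, rfl⟩
      rw [← ha] at h1
      rw [← hb] at h2
      have e₁ : w₁ = z₁ * a := by rw [ha, ← mul_assoc, zz₁, one_mul]
      have e₂ : w₂ = z₂ * b := by rw [hb, ← mul_assoc, zz₂, one_mul]
      have a₂ : Commute z₂ a := h1 K₂ hc₂ z₂ m₂
      have b₁ : Commute z₁ b := h2 K₁ hc₁ z₁ m₁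
      have hww : w₁ * w₂ = z₁ * z₂ * (a * b) := by
        rw [e₁, e₂]
        calc z₁ * a * (z₂ * b) = z₁ * (a * z₂) * b := by group
          _ = z₁ * z₂ * (a * b) := by rw [← a₂.eq]; group
      have hww' : w₂ * w₁ = z₂ * z₁ * (b * a) := by
        rw [e₁, e₂]
        calc z₂ * b * (z₁ * a) = z₂ * (b * z₁) * a := by group
          _ = z₂ * z₁ * (b * a) := by rw [← b₁.eq]; group
      -- `c₀` centralises the class
      obtain ⟨c₀, hc₀⟩ : ∃ c₀, c₀ = z₁ * z₂ * (z₁ * z₂) := ⟨_, rfl⟩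
      have h3 : c₀ = b * a * (a * b)⁻¹ := by
        rw [hww, hww'] at hc
        have h4 : (z₂ * z₁)⁻¹ = z₁ * z₂ := by rw [mul_inv_rev, zi₁, zi₂]
        calc c₀ = (z₂ * z₁)⁻¹ * (z₁ * z₂ * (a * b)) * (a * b)⁻¹ := by rw [hc₀, h4]; group
          _ = b * a * (a * b)⁻¹ := by rw [hc]; group
      have hcen : ∀ L, Cl Om K L → ∀ x ∈ L, Commute x c₀ := by
        intro L hL x hx
        have f1 : Commute x a := h1 L hL x hx
        have f2 : Commute x b := h2 L hL x hx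
        rw [h3]
        exact (f2.mul_right f1).mul_right (f1.mul_right f2).inv_right
      -- the member over `z₂ z₁ z₂`
      have hK₃ := w.hyp.conj K₁ hK₁ z₂
      have hz₃ : zz (cj z₂ K₁) = z₁ * c₀ := by
        rw [zz_cj' w.hyp hK₁, ← hz₁, zi₂, hc₀]
        calc z₂ * z₁ * z₂ = (z₁ * z₁) * z₂ * z₁ * z₂ := by rw [zz₁]; group
          _ = z₁ * (z₁ * z₂ * (z₁ * z₂)) := by group
      have hcl₃ : Cl Om K₁ (cj z₂ K₁) := by
        have f1 := (hc₁.symm.trans hc₂).cj w.hyp z₂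
        rw [mem_normalizer_iff_cj.1 (le_normalizer m₂)] at f1
        exact (hc₁.symm.trans hc₂).trans f1.symm
      have hz₁c : Commute z₁ c₀ := hcen K₁ hc₁ z₁ m₁
      have hcomm : z₁ * z₂ = z₂ * z₁ := by
        by_cases hKK : K₁ = cj z₂ K₁
        · have f1 : z₁ = z₁ * c₀ := by
            rw [← hz₃, ← hKK, hz₁]
          have f2 : c₀ = 1 := (left_eq_mul.1 f1)
          rw [hc₀] at f2
          calc z₁ * z₂ = (z₁ * z₂)⁻¹ := (inv_eq_of_mul_eq_one_right f2).symm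
            _ = z₂ * z₁ := by rw [mul_inv_rev, zi₁, zi₂]
        · exfalso
          have hl : Lkd Om K₁ (cj z₂ K₁) := by
            refine ⟨hK₁, hK₃, hKK, ?_, w.not_orth hK₃ hcl₃⟩
            rw [hz₃, ← hz₁]
            exact ((Commute.refl z₁).mul_right hz₁c).eq
          obtain ⟨M, hM1, -, hzM, -, -⟩ := w.el.third _ _ hl
          rw [hz₃, ← hz₁, ← mul_assoc, zz₁, one_mul] at hzM
          obtain ⟨y, hy, hyM⟩ := w.el.moves _ _ hM1.symm
          rw [hzM] at hyM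
          exact hyM (hcen K₁ hc₁ y hy).eq
      by_cases hKK : K₁ = K₂
      · refine ⟨K₁, hK₁, hc₁, fun x hx => ?_⟩
        have f0 : z₁ = z₂ := by rw [hz₁, hz₂, hKK]
        have f1 : Commute x a := h1 K₁ hc₁ x hx
        have f2 : Commute x b := h2 K₁ hc₁ x hx
        rw [hww, ← f0, zz₁, one_mul]
        exact (f1.mul_right f2).eq
      · have hl : Lkd Om K₁ K₂ := ⟨hK₁, hK₂, hKK, by rw [← hz₁, ← hz₂, hcomm], w.not_orth hK₂ (hc₁.symm.trans hc₂)⟩
        obtain ⟨M, hM1, -, hzM, -, -⟩ := w.el.third _ _ hl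
        refine ⟨M, hM1.mL, hc₁.trans (Cl.step hM1), fun x hx => ?_⟩
        have f1 : Commute x a := h1 M (hc₁.trans (Cl.step hM1)) x hx
        have f2 : Commute x b := h2 M (hc₁.trans (Cl.step hM1)) x hx
        have f3 : Commute x (z₁ * z₂) := by
          rw [hz₁, hz₂, ← hzM]
          exact w.hyp.comm_zz hM1.mL (le_normalizer hx)
        rw [hww]
        exact (f3.mul_right (f1.mul_right f2)).eq

/-- `F` does not fix the block of `K` -/
theorem not_le (f : FSimp F) (zF : ∀ K ∈ Om, zz K ∈ F) (hK : K ∈ Om) (hL : L ∈ Om) (ho : Orth K L) :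
    ¬ F ≤ ST (BB Om K) := by
  intro hle
  -- all members are in the block
  have hall : ∀ N ∈ Om, ∀ S, Syl S ⊤ → zz N ∈ S → BS Om S = BB Om K := by
    intro N hN S hS hz
    obtain ⟨S₁, hS₁, hz₁, h1⟩ := w.exists_syl_elt hK (w.hyp.zz_mul hN) (hle (zF N hN))
    rw [w.bs_eq hS hN hz, ← h1, w.bs_eq hS₁ hN hz₁]
  -- the `zz N` fix the class of `K`
  have hfix : ∀ N ∈ Om, Cl Om K (cj (zz N) K) := by
    intro N hN
    obtain ⟨S, hS, hz, -⟩ := exists_syl_two (w.hyp.zz_mul hN) (w.hyp.zz_mul hN) rfl (mem_top (zz N)) (mem_top (zz N))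
    have h1 : K ∈ BS Om S := by rw [hall N hN S hS hz]; exact self_mem_BB hK
    obtain ⟨-, M, hM, hzM, hc⟩ := h1
    have h2 := w.el.noswap S hS.2.1 N hN hz M hM hzM
    have h3 : zz (cj (zz N) M) ∈ S := by
      rw [zz_cj' w.hyp hM]
      exact S.mul_mem (S.mul_mem hz hzM) (S.inv_mem hz)
    have h4 := w.el.chain S hS.2.1 M hM _ (w.hyp.conj M hM _) hzM h3 h2
    exact hc.trans (h4.trans (hc.symm.cj w.hyp _))
  obtain ⟨E, hE⟩ : ∃ E : Subgroup G, E = closure {z | ∃ N ∈ Om, z = zz N} := ⟨_, rfl⟩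
  obtain ⟨Y, hY⟩ : ∃ Y : Subgroup G, Y = closure {z | ∃ N, Cl Om K N ∧ z = zz N} := ⟨_, rfl⟩
  have hEF : E ≤ F := by
    rw [hE, closure_le]
    rintro z ⟨N, hN, rfl⟩
    exact zF N hN
  have hYE : Y ≤ E := by
    rw [hY, closure_le]
    rintro z ⟨N, hN, rfl⟩
    rw [hE]
    exact subset_closure ⟨N, hN.mem hK, rfl⟩
  have hzY : zz K ∈ Y := by rw [hY]; exact subset_closure ⟨K, Cl.refl K, rfl⟩
  haveI := f.sim
  have hsimple : ∀ Z : Subgroup G, Z ≤ F → Z ≠ ⊥ → F ≤ normalizer (Z : Set G) → Z = F := by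
    intro Z hZF hZ hn
    have h1 : (Z.subgroupOf F).Normal := (normal_subgroupOf_iff_le_normalizer hZF).2 hn
    rcases h1.eq_bot_or_eq_top with h2 | h2
    · exfalso
      rw [subgroupOf_eq_bot, disjoint_iff, inf_eq_left.2 hZF] at h2
      exact hZ h2
    · rw [subgroupOf_eq_top] at h2
      exact le_antisymm hZF h2
  have hne : ∀ {Z : Subgroup G}, zz K ∈ Z → Z ≠ ⊥ := by
    rintro Z h1 rfl
    exact w.hyp.zz_ne hK (mem_bot.1 h1)
  have hEn : ∀ g : G, cj g E = E := by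
    have key : ∀ g : G, cj g E ≤ E := by
      intro g
      have h1 : E ≤ cj g⁻¹ E := by
        conv_lhs => rw [hE]
        rw [closure_le]
        rintro z ⟨N, hN, rfl⟩
        rw [SetLike.mem_coe, mem_cj, inv_inv, ← zz_cj' w.hyp hN, hE]
        exact subset_closure ⟨_, w.hyp.conj N hN g, rfl⟩
      have h2 := cj_mono g h1
      rwa [cj_cj_inv] at h2
    intro g
    refine le_antisymm (key g) ?_
    have h1 := cj_mono g (key g⁻¹)
    rwa [cj_cj_inv] at h1
  have hEeq : E = F := hsimple E hEF (hne (hYE hzY)) fun g _ => mem_normalizer_iff_cj.2 (hEn g)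
  have hYeq : Y = F := by
    refine hsimple Y (hYE.trans hEF) (hne hzY) ?_
    rw [← hEeq, hE, closure_le]
    rintro z ⟨N, hN, rfl⟩
    have key : cj (zz N) Y ≤ Y := by
      have h1 : Y ≤ cj (zz N)⁻¹ Y := by
        conv_lhs => rw [hY]
        rw [closure_le]
        rintro z ⟨M, hM, rfl⟩
        rw [SetLike.mem_coe, mem_cj, inv_inv, ← zz_cj' w.hyp (hM.mem hK), hY]
        exact subset_closure ⟨_, (hfix N hN).trans (hM.cj w.hyp _), rfl⟩
      have h2 := cj_mono (zz N) h1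
      rwa [cj_cj_inv] at h2
    rw [SetLike.mem_coe, mem_normalizer_iff_cj]
    exact Subgroup.eq_of_le_of_card_ge key (card_cj (zz N) Y).ge
  have hcen : zz L ∈ centralizer (F : Set G) := by
    rw [← hYeq, hY, mem_centralizer_iff]
    intro x hx
    have h1 : closure {z | ∃ N, Cl Om K N ∧ z = zz N} ≤ centralizer ({zz L} : Set G) := by
      rw [closure_le]
      rintro z ⟨N, hN, rfl⟩
      rw [SetLike.mem_coe, mem_centralizer_singleton_iff]
      exact (w.orth_cl hN hL ho).2 _ (w.hyp.zz_mem (hN.mem hK)) _ (w.hyp.zz_mem hL)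
    exact mem_centralizer_singleton_iff.1 (h1 hx)
  rw [f.cen, mem_bot] at hcen
  exact w.hyp.zz_ne hL hcen

end EW

set_option linter.unusedVariables false in
/-- **the end** -/
theorem false_of (e : Elem Om U) (one : ∀ K ∈ Om, ∀ L ∈ Om, ∃ g, L = cj g K) (f : FSimp F)
    (zF : ∀ K ∈ Om, zz K ∈ F) (f5 : ∀ K L M, Lkd Om K L → M ∈ Om → Orth K M → Orth L M)
    (conn : ∀ u : G, orderOf u = 2 → ∀ K ∈ Om, K ≤ centralizer {u} →
      ∃ X, SNC (centralizer {u}) K X ∧ ∀ L ∈ BL K X, Cl Om K L)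
    (ho : ∃ K ∈ Om, ∃ L ∈ Om, Orth K L) (hc : CloEnd.Crit1175 F) : False := by
  haveI : Fact (Nat.Prime 2) := ⟨Nat.prime_two⟩
  have w : EW Om U := ⟨e, f5, conn⟩
  obtain ⟨K, hK, L, hL, hKL⟩ := ho
  obtain ⟨S, hS, hz, -⟩ := exists_syl_two (w.hyp.zz_mul hK) (w.hyp.zz_mul hK) rfl (mem_top (zz K)) (mem_top (zz K))
  have hB := w.bs_eq hS hK hz
  have hKS : K ∈ BS Om S := by rw [hB]; exact self_mem_BB hK
  have hA := w.isA hS
  obtain ⟨K₁, hK₁, hU₁, hc₁⟩ := w.rep_of hS hKS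
  have hAS : WW Om U S ≤ S := WW_le S
  have hE0 := w.e0_le (WW Om U S)
  -- the central involution
  obtain ⟨x, hx, hxx, hx1, hxc⟩ := Cfsg.Agent.Cit.Nil.CV.TProd.exists_central hS.2.1 (hE0.trans hAS) (by
    intro g hg y hy
    have h1 := cj_E0 w.hyp w.el.cvw.vch g hy
    rwa [mem_normalizer_iff_cj.1 (w.el.cvw.normalizer_le S (le_normalizer hg))] at h1) (by
    intro h1
    have h2 : zz K₁ ∈ E0 Om U (WW Om U S) := subset_closure ⟨K₁, hK₁, hU₁, rfl⟩
    rw [h1, mem_bot] at h2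
    exact w.hyp.zz_ne hK₁ h2)
  have hxF : x ∈ F := by
    have h1 : E0 Om U (WW Om U S) ≤ F := by
      rw [E0, closure_le]
      rintro z ⟨N, hN, -, rfl⟩
      exact zF N hN
    exact h1 hx
  have hx2 : orderOf x = 2 := orderOf_eq_prime (by rw [pow_two]; exact hxx) hx1
  -- `x` centralises a member of the block
  obtain ⟨K₂, hK₂, hU₂, -, hx₂⟩ := w.el.cent _ hA x (hE0 hx) hxx K₁ hK₁ hU₁
  have hB₂ : BB Om K₂ = BB Om K := by rw [← hB, w.bs_eq hS hK₂ (hAS (w.zz_mem_A hK₂ hU₂))]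
  have hcx : K₂ ≤ centralizer {x} := fun y hy => mem_centralizer_singleton_iff.2 (hx₂ y hy)
  have hC := w.cent_le hx2 hK₂ hcx
  have hG2 : ∀ g : G, g * x * g⁻¹ ∈ ST (BB Om K) → g ∈ ST (BB Om K) := by
    intro g hg
    rw [← hB₂] at hg ⊢
    exact w.mem_of hK₂ hx2 hcx hg
  rw [hB₂] at hC
  -- products of commuting conjugates
  have h3 : ∀ g : G, Commute x (g * x * g⁻¹) → g * x * g⁻¹ ≠ x → centralizer {x * (g * x * g⁻¹)} ≤ ST (BB Om K) := by
    intro g hcg hne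
    have hgM := hG2 g (hC (mem_centralizer_singleton_iff.2 hcg.eq.symm))
    have hS' := syl_cj' hS g
    have hKS' : K ∈ BS Om (cj g S) := by
      rw [← cj_BS w.hyp, hB]
      rw [mem_ST] at hgM
      rw [hgM]
      exact self_mem_BB hK
    have hA' : cj g (WW Om U S) = WW Om U (cj g S) := (w.el.cvw.WW_cj g S).symm
    have hgx := cj_E0 w.hyp w.el.cvw.vch g hx
    rw [hA'] at hgx
    obtain ⟨M, hM, hcM, hMc⟩ := w.two hK (w.act_of_mem hS hKS hx) (w.act_of_mem hS' hKS' hgx) hcg.eq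
    have hgg : g * x * g⁻¹ * (g * x * g⁻¹) = 1 := by
      calc g * x * g⁻¹ * (g * x * g⁻¹) = g * (x * x) * g⁻¹ := by group
        _ = 1 := by rw [hxx]; group
    have h4 : orderOf (x * (g * x * g⁻¹)) = 2 := by
      refine orderOf_eq_prime ?_ ?_
      · rw [pow_two]
        calc x * (g * x * g⁻¹) * (x * (g * x * g⁻¹)) = x * ((g * x * g⁻¹) * x) * (g * x * g⁻¹) := by group
          _ = x * (x * (g * x * g⁻¹)) * (g * x * g⁻¹) := by rw [hcg.eq]
          _ = (x * x) * ((g * x * g⁻¹) * (g * x * g⁻¹)) := by group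
          _ = 1 := by rw [hxx, hgg, one_mul]
      · intro h5
        apply hne
        have h6 := inv_eq_of_mul_eq_one_right h5
        rw [← h6]
        exact inv_eq_of_mul_eq_one_right hxx
    have h5 := w.cent_le h4 hM (fun y hy => mem_centralizer_singleton_iff.2 (hMc y hy))
    rw [w.bb_eq hK ⟨hM, Or.inl hcM⟩] at h5
    exact h5
  -- S1175 in `F`
  haveI := f.nor
  haveI := f.sim
  obtain ⟨T, rfl⟩ := sylow_of_syl hS
  obtain ⟨H, hH⟩ : ∃ H : Subgroup F, IsStronglyEmbedded H := by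
    refine hc ((ST (BB Om K)).subgroupOf F) ?_ ⟨x, hxF⟩ ?_ ?_ ?_ ?_ ?_
    · rw [Ne, subgroupOf_eq_top]
      exact w.not_le f zF hK hL hKL
    · rw [← Subgroup.orderOf_coe]; exact hx2
    · rw [mem_subgroupOf]
      exact hC (mem_centralizer_singleton_iff.2 rfl)
    · have p1 : IsPGroup 2 ((T : Subgroup G).subgroupOf F) := T.isPGroup'.comap_subtype
      have p2 : ¬ 2 ∣ ((T : Subgroup G).subgroupOf F).index := fun h5 => T.not_dvd_index (h5.trans
        (Cfsg.Agent.SignalizersComponents.PCompCore.relIndex_dvd_index_of_subnormal (T : Subgroup G)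
          (inferInstance : F.Normal).isSubnormal))
      obtain ⟨P, hP⟩ : ∃ P : Sylow 2 F, (P : Subgroup F) = (T : Subgroup G).subgroupOf F := ⟨p1.toSylow p2, rfl⟩
      refine ⟨P, ?_, ?_⟩
      · have h5 : (⟨x, hxF⟩ : F) ∈ (P : Subgroup F) := by
          rw [hP, mem_subgroupOf]
          exact hAS (hE0 hx)
        exact h5
      · intro s hs
        have h5 : s ∈ (P : Subgroup F) := hs
        rw [hP, mem_subgroupOf] at h5
        exact Subtype.ext (hxc _ h5)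
    · intro g hg
      rw [mem_subgroupOf] at hg ⊢
      exact hG2 _ hg
    · intro g hcg hne y hy
      rw [mem_subgroupOf]
      have h4 : Commute x ((g : G) * x * (g : G)⁻¹) := congrArg Subtype.val hcg.eq
      refine h3 (g : G) h4 (fun h5 => hne (Subtype.ext h5)) ?_
      rw [mem_centralizer_singleton_iff] at hy ⊢
      exact congrArg Subtype.val hy
  have hcm : zz K * zz L = zz L * zz K := hKL.2 _ (w.hyp.zz_mem hK) _ (w.hyp.zz_mem hL)
  have h4 : orderOf (zz K * zz L) = 2 := by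
    refine orderOf_eq_prime ?_ ?_
    · rw [pow_two]
      calc zz K * zz L * (zz K * zz L) = zz K * (zz L * zz K) * zz L := by group
        _ = (zz K * zz K) * (zz L * zz L) := by rw [← hcm]; group
        _ = 1 := by rw [w.hyp.zz_mul hK, w.hyp.zz_mul hL, one_mul]
    · intro h5
      apply hKL.1
      apply e.inj K hK L hL
      have h6 := inv_eq_of_mul_eq_one_right h5
      rw [← h6]
      exact (inv_eq_of_mul_eq_one_right (w.hyp.zz_mul hK)).symm
  have h5 := Cfsg.Agent.TwoFusion.StronglyEmbeddedBasic.isConj_of_involutions hH ⟨zz K, zF K hK⟩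
    ⟨zz K * zz L, F.mul_mem (zF K hK) (zF L hL)⟩ (by rw [← Subgroup.orderOf_coe]; exact w.order_zz hK)
    (by rw [← Subgroup.orderOf_coe]; exact h4)
  obtain ⟨g, hg⟩ := isConj_iff.1 h5
  have h6 : (g : G) * zz K * (g : G)⁻¹ = zz K * zz L := congrArg Subtype.val hg
  rw [← zz_cj' w.hyp hK] at h6
  exact e.omul K hK L hL hKL _ (w.hyp.conj K hK g) h6

end Cfsg.Agent.Cit.Nil.CVA2
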