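import Cfsg.Agent.Cit.Nil.CVA2.Defs
import Cfsg.Agent.Cit.Nil.CVT.Free
import Cfsg.Agent.Cit.Nil.FOne
import Cfsg.Agent.Cit.Nil.LOne
import Cfsg.Agent.S0542

/-!
# (6b)(CV), components of type `A2`: (F5)

* `hyp_up`, `one_up` : families of a subgroup embedded as a normal subgroup;
* `act_trivial` : a 2-element of `Aut(X)` centralising two commuting members of the class is trivial;
* `cent_of` : the version for the subnormal closure `X` of `N` in `H`;
* `f5` : `K`, `L` linked, `K` orthogonal to `M` imply `L` orthogonal to `M`.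
-/

set_option autoImplicit false
set_option linter.style.haveILetI false
set_option linter.unusedSectionVars false

namespace Cfsg.Agent.Cit.Nil.CVA2

open Subgroup Cfsg Cit Tau CV CV1 CVT Cfsg.Agent.Cit.Comp
open Cfsg.Agent.Cit.Nil.ROne (FSimp)

universe u

/-! ### Normal embeddings -/

section up

variable {X Y : Type*} [Group X] [Group Y] [Finite X] [Finite Y] {f : X →* Y} {Om : Set (Subgroup X)}

theorem inf_ker (hi : Function.Injective f) (K : Subgroup X) : K ⊓ f.ker = ⊥ := by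
  rw [(MonoidHom.ker_eq_bot_iff f).2 hi, inf_bot_eq]

theorem hyp_up (hi : Function.Injective f) (hn : f.range.Normal) (h : Hyp Om)
    (hinv : ∀ K ∈ Om, ∀ y : Y, cj y (K.map f) ∈ img f Om) : Hyp (img f Om) := by
  have hKC := fun K (_ : K ∈ Om) => inf_ker hi K
  refine ⟨?_, ?_, ?_, ?_, ?_, ?_⟩
  · rintro _ ⟨K, hK, rfl⟩ y
    exact hinv K hK y
  · rintro _ ⟨K, hK, rfl⟩
    exact HasQS.of_equiv (QuoCen.equivMap (hKC K hK)) (h.quat K hK)
  · rintro _ ⟨K, hK, rfl⟩ t ⟨k, hk, rfl⟩ ht2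
    rw [QuoCen.zz_map_of_inf h hK (hKC K hK)]
    rw [QuoCen.orderOf_map (hKC K hK) hk] at ht2
    rw [h.uniq K hK k hk ht2]
  · rintro _ ⟨K, hK, rfl⟩
    rw [QuoCen.zz_map_of_inf h hK (hKC K hK)]
    obtain ⟨z, hz⟩ : ∃ z, z = zz K := ⟨_, rfl⟩
    rw [← hz]
    have hsub := h.sub K hK
    rw [← hz] at hsub
    have hle := h.le_centralizer hK
    rw [← hz] at hle
    let φ : centralizer {z} →* centralizer {f z} :=
      { toFun := fun x => ⟨f x, by
          rw [mem_centralizer_singleton_iff, ← map_mul, ← map_mul, mem_centralizer_singleton_iff.1 x.2]⟩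
        map_one' := by apply Subtype.ext; simp
        map_mul' := fun x y => by apply Subtype.ext; simp }
    -- the range of `φ` is normal
    have hr : φ.range.Normal := by
      refine ⟨?_⟩
      rintro _ ⟨x, rfl⟩ g
      have h1 : (g : Y) * f x * (g : Y)⁻¹ ∈ f.range := hn.conj_mem _ ⟨x, rfl⟩ _
      obtain ⟨x', hx'⟩ := h1
      have hx'C : x' ∈ centralizer {z} := by
        rw [mem_centralizer_singleton_iff]
        apply hi
        rw [map_mul, map_mul, hx']
        have h2 : (g : Y) * f z = f z * g := mem_centralizer_singleton_iff.1 g.2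
        have h3 : f (x : X) * f z = f z * f x := by
          rw [← map_mul, ← map_mul, mem_centralizer_singleton_iff.1 x.2]
        have h4 : (g : Y)⁻¹ * f z = f z * (g : Y)⁻¹ := by
          rw [inv_mul_eq_iff_eq_mul, ← mul_assoc, h2, mul_inv_cancel_right]
        calc (g : Y) * f x * (g : Y)⁻¹ * f z = g * f x * ((g : Y)⁻¹ * f z) := by group
          _ = g * (f x * f z) * (g : Y)⁻¹ := by rw [h4]; group
          _ = (g * f z) * f x * (g : Y)⁻¹ := by rw [h3]; group
          _ = f z * (g * f x * (g : Y)⁻¹) := by rw [h2]; group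
      exact ⟨⟨x', hx'C⟩, Subtype.ext hx'⟩
    have h1 := hsub.map (f := φ.rangeRestrict) φ.rangeRestrict_surjective
    have h2 : ((K.map f).subgroupOf (centralizer {f z})) ≤ φ.range := by
      rintro ⟨y, hy⟩ hyK
      obtain ⟨k, hk, hky⟩ := hyK
      exact ⟨⟨k, hle hk⟩, Subtype.ext hky⟩
    refine IsSubnormal.trans h2 ?_ hr.isSubnormal
    convert h1 using 1
    ext y
    simp only [mem_subgroupOf, mem_map]
    constructor
    · rintro ⟨k, hk, hky⟩
      exact ⟨⟨k, hle hk⟩, hk, Subtype.ext (Subtype.ext hky)⟩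
    · rintro ⟨k, hk, rfl⟩
      exact ⟨k, hk, rfl⟩
  · rintro _ ⟨K, hK, rfl⟩ _ ⟨L, hL, rfl⟩ hKL
    rw [QuoCen.zz_map_of_inf h hK (hKC K hK), QuoCen.zz_map_of_inf h hL (hKC L hL)] at hKL
    rcases h.h2 K hK L hL (hi hKL) with h1 | h1
    · left; rw [h1]
    · right
      rw [← map_commutator, QuoCen.OO_map_of_inf (hKC K hK), QuoCen.OO_map_of_inf (hKC L hL)]
      exact (Subgroup.map_mono h1).trans (map_inf_le _ _ _)
  · rintro _ ⟨K, hK, rfl⟩ _ ⟨L, hL, rfl⟩ _ ⟨y, hy, rfl⟩ hy2 hy4 hyz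
    rw [QuoCen.zz_map_of_inf h hL (hKC L hL), ← map_mul, ← map_mul] at hyz
    rw [QuoCen.orderOf_map (hKC K hK) hy] at hy4
    have hy2' : IsPGroup 2 (zpowers y) := by
      obtain ⟨e, he⟩ := (IsPGroup.iff_card (p := 2)).1 hy2
      rw [Nat.card_zpowers, QuoCen.orderOf_map (hKC K hK) hy] at he
      rw [IsPGroup.iff_card]
      exact ⟨e, by rw [Nat.card_zpowers, he]⟩
    have h2 := h.h3 K hK L hL y hy hy2' hy4 (hi hyz)
    rw [mem_normalizer_iff_cj] at h2 ⊢
    rw [← cj_map, h2]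

theorem one_up (hi : Function.Injective f) (hn : f.range.Normal) (h : One Om)
    (hinv : ∀ K ∈ Om, ∀ y : Y, cj y (K.map f) ∈ img f Om) : One (img f Om) := by
  refine ⟨hyp_up hi hn h.hyp hinv, ?_⟩
  rintro S hS _ ⟨⟨K, hK, rfl⟩, hKS⟩ _ ⟨⟨L, hL, rfl⟩, hLS⟩
  have h1 : IsPGroup 2 (S.comap f) := hS.comap_of_injective f hi
  rw [h.one (S.comap f) h1 K ⟨hK, by rw [relIndex_comap]; exact hKS⟩ L ⟨hL, by rw [relIndex_comap]; exact hLS⟩]

end up

/-! ### Automorphisms of `X` -/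

section act

variable {X : Type u} [Group X] [Finite X] {F K L N : Subgroup X} {V : Subgroup X → Subgroup X}

theorem conj_mul_eq (y : MulAut X) (x : X) : y * MulAut.conj x * y⁻¹ = MulAut.conj (y x) := by
  ext t
  simp only [MulAut.mul_apply, MulAut.conj_apply, map_mul, map_inv, MulAut.apply_inv_self]

theorem map_cj_aut (y : MulAut X) (g : X) (K : Subgroup X) :
    (cj g K).map y.toMonoidHom = cj (y g) (K.map y.toMonoidHom) := by
  rw [cj_map]; rfl

/-- the automorphisms preserving the class of `N` -/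
def SS (N : Subgroup X) : Subgroup (MulAut X) where
  carrier := {y | N.map y.toMonoidHom ∈ cls N}
  one_mem' := ⟨1, by
    rw [cj_one]
    ext x
    simp [Subgroup.mem_map]⟩
  mul_mem' := by
    rintro a b ⟨g, hg⟩ ⟨k, hk⟩
    refine ⟨a k * g, ?_⟩
    have h1 : N.map (a * b).toMonoidHom = (N.map b.toMonoidHom).map a.toMonoidHom := by
      rw [Subgroup.map_map]; rfl
    rw [h1, hk, map_cj_aut, hg, cj_mul]
  inv_mem' := by
    rintro a ⟨g, hg⟩
    refine ⟨(a⁻¹ g)⁻¹, ?_⟩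
    have h1 : (N.map a.toMonoidHom).map (a⁻¹).toMonoidHom = N := by
      rw [Subgroup.map_map]
      ext x
      constructor
      · rintro ⟨y, hy, rfl⟩
        have h2 : ((a⁻¹).toMonoidHom.comp a.toMonoidHom) y = y := MulAut.inv_apply_self X a y
        rw [h2]
        exact hy
      · intro hx
        exact ⟨x, hx, MulAut.inv_apply_self X a x⟩
    rw [hg, map_cj_aut] at h1
    have h2 := congrArg (cj (a⁻¹ g)⁻¹) h1
    rw [cj_inv_cj] at h2
    exact h2

theorem mem_SS {y : MulAut X} : y ∈ SS N ↔ N.map y.toMonoidHom ∈ cls N := Iff.rfl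

theorem conj_mem_SS (g : X) : MulAut.conj g ∈ SS N := ⟨g, rfl⟩

theorem SS_map {y : MulAut X} (hy : y ∈ SS N) (hK : K ∈ cls N) : K.map y.toMonoidHom ∈ cls N := by
  obtain ⟨g, rfl⟩ := hK
  obtain ⟨k, hk⟩ := hy
  exact ⟨y g * k, by rw [map_cj_aut, hk, cj_mul]⟩

/-- `X →* SS N` -/
def ιS (N : Subgroup X) : X →* SS N where
  toFun x := ⟨MulAut.conj x, conj_mem_SS x⟩
  map_one' := Subtype.ext (map_one _)
  map_mul' x y := Subtype.ext (map_mul _ x y)

theorem ιS_coe (x : X) : (ιS N x : MulAut X) = MulAut.conj x := rfl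

theorem conj_ιS (y : SS N) (x : X) : y * ιS N x * y⁻¹ = ιS N ((y : MulAut X) x) :=
  Subtype.ext (conj_mul_eq (y : MulAut X) x)

theorem ιS_inj (f : FSimp F) : Function.Injective (ιS N) := by
  rw [injective_iff_map_eq_one]
  intro x hx
  have h1 : x ∈ centralizer (F : Set X) := by
    rw [mem_centralizer_iff]
    intro t _
    have h2 : MulAut.conj x t = t := by
      have h3 : (ιS N x : MulAut X) = 1 := by rw [hx]; rfl
      rw [ιS_coe] at h3
      rw [h3]; rfl
    rw [MulAut.conj_apply, mul_inv_eq_iff_eq_mul] at h2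
    exact h2.symm
  rw [f.cen] at h1
  exact mem_bot.1 h1

theorem ιS_range : (ιS N).range.Normal := by
  refine ⟨?_⟩
  rintro _ ⟨x, rfl⟩ y
  exact ⟨_, (conj_ιS y x).symm⟩

/-- an automorphism centralising `F` is trivial -/
theorem eq_one_of_fix (f : FSimp F) {α : MulAut X} (hα : ∀ x ∈ F, α x = x) : α = 1 := by
  ext x
  have h1 : x⁻¹ * α x ∈ centralizer (F : Set X) := by
    rw [mem_centralizer_iff]
    intro t ht
    have h2 := f.nor.conj_mem t ht x
    have h3 := hα _ h2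
    rw [map_mul, map_mul, map_inv, hα t ht] at h3
    -- `α x t (α x)⁻¹ = x t x⁻¹`
    have h4 : α x * t = x * t * x⁻¹ * α x := by rw [← h3]; group
    calc t * (x⁻¹ * α x) = x⁻¹ * (x * t * x⁻¹ * α x) := by group
      _ = x⁻¹ * (α x * t) := by rw [h4]
      _ = x⁻¹ * α x * t := by group
  rw [f.cen, mem_bot, inv_mul_eq_one] at h1
  rw [← h1]
  rfl

/-- the nontrivial normal subgroups of `SS N` contain `F` -/
theorem F_le (f : FSimp F) {M : Subgroup (SS N)} (hM : M.Normal) (hM1 : M ≠ ⊥) : F.map (ιS N) ≤ M := by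
  by_cases h1 : M.comap (ιS N) = ⊥
  · exfalso
    apply hM1
    rw [eq_bot_iff]
    intro n hn
    have h2 : (n : MulAut X) = 1 := by
      ext x
      have h3 : ιS N ((n : MulAut X) x) * (ιS N x)⁻¹ ∈ M := by
        rw [← conj_ιS]
        have h4 : n * ιS N x * n⁻¹ * (ιS N x)⁻¹ = n * (ιS N x * n⁻¹ * (ιS N x)⁻¹) := by group
        rw [h4]
        exact M.mul_mem hn (hM.conj_mem _ (M.inv_mem hn) _)
      rw [← map_inv, ← map_mul] at h3
      have h5 : (n : MulAut X) x * x⁻¹ ∈ M.comap (ιS N) := h3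
      rw [h1, mem_bot, mul_inv_eq_one] at h5
      exact h5
    exact mem_bot.2 (Subtype.ext h2)
  · have h2 : F ≤ M.comap (ιS N) := by
      refine f.le (fun g _ n hn => ?_) h1
      have h3 := hM.conj_mem _ hn (ιS N g)
      rw [mem_comap, map_mul, map_mul, map_inv]
      exact h3
    exact map_le_iff_le_comap.2 h2

theorem cent_F (f : FSimp F) : centralizer ((F.map (ιS N) : Subgroup (SS N)) : Set (SS N)) = ⊥ := by
  rw [eq_bot_iff]
  intro α hα
  rw [mem_bot]
  apply Subtype.ext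
  apply eq_one_of_fix f
  intro x hx
  rw [mem_centralizer_iff] at hα
  have h1 := hα _ ⟨x, hx, rfl⟩
  have h2 := conj_ιS α x
  rw [← h1, mul_inv_cancel_right] at h2
  exact (ιS_inj (N := N) f h2).symm

/-- **a 2-automorphism centralising two commuting members is trivial** -/
theorem act_trivial (h1173 : ∀ (G : Type u) [Group G] [Finite G], oddCore G = ⊥ → OneF.H1173 G)
    (h1171 : ∀ (G : Type u) [Group G] [Finite G], OneF.H1171 G) (hev : EvQ X)
    (w : TW N V) (hp : pCore 2 X = ⊥) (hno : ∀ L ∈ cls N, ¬ Orth N L)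
    {β : MulAut X} (hβ2 : IsPGroup 2 (zpowers β)) (hβN : ∀ n ∈ N, β n = n) (hL : L ∈ cls N) (hNL : N ≠ L)
    (hc : zz N * zz L = zz L * zz N) (hβL : ∀ n ∈ L, β n = n) : β = 1 := by
  haveI : Fact (Nat.Prime 2) := ⟨Nat.prime_two⟩
  haveI : Finite (MulAut X) := Finite.of_injective (fun y : MulAut X => (y : X → X)) DFunLike.coe_injective
  obtain ⟨F, f, hF⟩ := exists_fsimp w.odd hp hev w.cvw w.gen
  have hone : One (cls N) := one_of_orth w.cvw hno
  have hi := ιS_inj (N := N) f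
  have hn := ιS_range (N := N)
  have hinv : ∀ K ∈ cls N, ∀ y : SS N, cj y (K.map (ιS N)) ∈ img (ιS N) (cls N) := by
    intro K hK y
    refine ⟨_, SS_map y.2 hK, ?_⟩
    ext t
    constructor
    · rintro ⟨_, ⟨k, hk, rfl⟩, rfl⟩
      refine ⟨ιS N k, ⟨k, hk, rfl⟩, ?_⟩
      exact conj_ιS y k
    · rintro ⟨_, ⟨k, hk, rfl⟩, rfl⟩
      refine ⟨(y : MulAut X) k, ⟨k, hk, rfl⟩, ?_⟩
      exact (conj_ιS y k).symm
  have hone' := one_up hi hn hone hinv
  have hnil : NilOm (img (ιS N) (cls N)) := by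
    rintro _ ⟨K, hK, rfl⟩ Q hQ
    have h1 : IsPGroup 2 (K.map (ιS N)) := (w.cvw.two K hK).map (ιS N)
    exact (le_of_mem_OmS h1 hQ.2.2).trans le_sup_right
  have hN : ∀ M : Subgroup (SS N), M.Normal → M ≠ ⊥ → centralizer (M : Set (SS N)) = ⊥ := by
    intro M hM hM1
    rw [eq_bot_iff, ← cent_F (N := N) f]
    exact centralizer_le (F_le f hM hM1)
  have hO : oddCore (SS N) = ⊥ := by
    by_contra hne
    have h1 := F_le f (Lib.Cores.pPrimeCore_normal 2) hne
    have h2 : 2 ∣ Nat.card (oddCore (SS N)) := by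
      refine dvd_trans ?_ (card_dvd_of_le h1)
      rw [card_map_of_injective hi]
      exact hF
    have h3 := Lib.Cores.pPrimeCore_coprime (G := SS N) 2
    rw [Nat.coprime_comm] at h3
    exact (Nat.Prime.coprime_iff_not_dvd Nat.prime_two).1 h3 h2
  have hβS : β ∈ SS N := by
    refine ⟨1, ?_⟩
    rw [cj_one]
    ext x
    constructor
    · rintro ⟨y, hy, rfl⟩
      have : β y = y := hβN y hy
      change β y ∈ N
      rw [this]; exact hy
    · intro hx
      exact ⟨x, hx, hβN x hx⟩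
  have hb : IsPGroup 2 (zpowers (⟨β, hβS⟩ : SS N)) := by
    obtain ⟨e, he⟩ := (IsPGroup.iff_card (p := 2)).1 hβ2
    rw [Nat.card_zpowers] at he
    rw [IsPGroup.iff_card]
    exact ⟨e, by rw [Nat.card_zpowers, Subgroup.orderOf_mk, he]⟩
  have hperp : ∀ K ∈ cls N, (∀ n ∈ K, β n = n) → OneF.Perp (⟨β, hβS⟩ : SS N) (K.map (ιS N)) := by
    intro K hK hfix
    obtain ⟨Q, hQ⟩ := Hyp.exists_syl (K.map (ιS N))
    refine ⟨Q, hQ, fun x hx => ?_⟩
    obtain ⟨k, hk, rfl⟩ := hQ.1 hx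
    have h1 := conj_ιS (⟨β, hβS⟩ : SS N) k
    have h2 : ((⟨β, hβS⟩ : SS N) : MulAut X) k = k := hfix k hk
    rw [h2, mul_inv_eq_iff_eq_mul] at h1
    exact h1
  have hw : OneF.WW (img (ιS N) (cls N)) (⟨β, hβS⟩ : SS N) := by
    refine ⟨_, ⟨N, self_mem_cls N, rfl⟩, _, ⟨L, hL, rfl⟩, ?_, ?_, hperp N (self_mem_cls N) hβN, hperp L hL hβL⟩
    · intro h1
      exact hNL (Subgroup.map_injective hi h1)
    · rw [QuoCen.zz_map_of_inf w.cvw.hyp (self_mem_cls N) (inf_ker hi N),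
        QuoCen.zz_map_of_inf w.cvw.hyp hL (inf_ker hi L), ← map_mul, ← map_mul, hc]
  have h1 := OneF.eq_one_of_WW_nil hone' (l1_nil hone' hnil) (h1173 _ hO) (h1171 _) hO hN hb hw
  exact congrArg Subtype.val h1

end act

/-! ### The subnormal closure `X` of `N` in `H` -/

section cent

variable {G : Type u} [Group G] [Finite G] {Om : Set (Subgroup G)} {U : Subgroup G → Subgroup G} {H L M N X : Subgroup G}
  {b g : G}

theorem zz_coe (w : CVW Om U) (hN : N ∈ Om) (hNX : N ≤ X) : ((zz (N.subgroupOf X) : X) : G) = zz N := by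
  have hNe : (N.subgroupOf X).map X.subtype = N := map_subgroupOf_eq_of_le hNX
  have h1 : ((zz (N.subgroupOf X) : X) : G) = zz ((N.subgroupOf X).map X.subtype) := by
    have h3 := (CVW.restr w X).hyp.orderOf_zz (subgroupOf_mem_restr hN hNX)
    refine w.hyp.uniq _ (by rw [hNe]; exact hN) _ ?_ ?_
    · exact ⟨_, (CVW.restr w X).hyp.zz_mem (subgroupOf_mem_restr hN hNX), rfl⟩
    · rw [orderOf_coe]; exact h3
  rwa [hNe] at h1

/-- `O_2(X)` is central in `X` -/
theorem two_central {X : Type*} [Group X] [Finite X] {N : Subgroup X} {V : Subgroup X → Subgroup X} (w : TW N V)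
    (hz : zz N ∉ pCore 2 X) : pCore 2 X ≤ center X := by
  have hPn : (pCore 2 X).Normal := Lib.Cores.pCore_normal 2
  have h1 : N ≤ centralizer (pCore 2 X : Set X) := by
    intro k hk
    rw [mem_centralizer_iff]
    intro n hn
    exact (w.cvw.hyp.lemma_one (self_mem_cls N) (w.cvw.two N (self_mem_cls N)) (Lib.Cores.pCore_isPGroup 2)
      (by rw [normalizer_eq_top_iff.2 hPn]; exact le_top) hz k hk n hn).symm
  have h2 : centralizer (pCore 2 X : Set X) = ⊤ := by
    rw [eq_top_iff, ← w.gen]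
    exact normalClosure_le_normal h1
  intro x hx
  rw [mem_center_iff]
  intro g
  have h3 : g ∈ centralizer (pCore 2 X : Set X) := by rw [h2]; exact mem_top g
  exact (mem_centralizer_iff.1 h3 x hx).symm

theorem card_lt_of_ne_top (hX : X ≠ ⊤) : Nat.card X < Nat.card G := by
  rw [← card_top (G := G)]
  have h2 : (X : Set G) ⊂ ((⊤ : Subgroup G) : Set G) := by
    rw [Set.ssubset_def]
    refine ⟨fun x _ => mem_top x, fun hh => hX ?_⟩
    rw [eq_top_iff]
    exact hh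
  exact Set.Finite.card_lt_card (Set.toFinite _) h2

theorem aut_pow (β : MulAut X) (hβ : ∀ x : X, ((β x : X) : G) = b * x * b⁻¹) (n : ℕ) (x : X) :
    (((β ^ n) x : X) : G) = b ^ n * x * (b ^ n)⁻¹ := by
  induction n with
  | zero => simp
  | succ n ih =>
    rw [pow_succ', MulAut.mul_apply, hβ, ih, pow_succ']
    group

/-- **a 2-element centralising two commuting members of the class of `N` in `X` centralises `X`** -/
theorem cent_of (h1173 : ∀ (G : Type u) [Group G] [Finite G], oddCore G = ⊥ → OneF.H1173 G)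
    (h1171 : ∀ (G : Type u) [Group G] [Finite G], OneF.H1171 G) (hev : ∀ (G : Type u) [Group G] [Finite G], EvQ G)
    (ih : TLt.{u} (Nat.card G)) (w : CVW Om U) (hN : N ∈ Om) (h : SNC H N X) (hH : pPrimeCore 2 H = ⊥) (hX : X ≠ ⊤)
    (hz : zz N ∉ (pCore 2 X).map X.subtype) (hb2 : IsPGroup 2 (zpowers b)) (hbX : b ∈ normalizer (X : Set G))
    (hbN : ∀ n ∈ N, b * n = n * b) (hL : L ∈ BL N X) (hNL : N ≠ L) (hc : zz N * zz L = zz L * zz N)
    (hbL : ∀ n ∈ L, b * n = n * b) : ∀ x ∈ X, b * x = x * b := by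
  haveI : Fact (Nat.Prime 2) := ⟨Nat.prime_two⟩
  have tw := h.tw w hN hH
  have hLO : L ∈ Om := BL_mem w hN hL
  have hLX : L ≤ X := BL_le h.KX hL
  obtain ⟨N', hN'⟩ : ∃ N', N' = N.subgroupOf X := ⟨_, rfl⟩
  obtain ⟨L', hL'⟩ : ∃ L', L' = L.subgroupOf X := ⟨_, rfl⟩
  have hLN' : L' ∈ cls N' := by
    rw [hL', hN']
    exact subgroupOf_mem_cls h.KX hL
  have hNe : N'.map X.subtype = N := by rw [hN']; exact map_subgroupOf_eq_of_le h.KX
  have hLe : L'.map X.subtype = L := by rw [hL']; exact map_subgroupOf_eq_of_le hLX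
  have hNL' : N' ≠ L' := by
    intro h1
    apply hNL
    rw [← hNe, h1, hLe]
  have hzN : ((zz N' : X) : G) = zz N := by rw [hN']; exact zz_coe w hN h.KX
  have hzL : ((zz L' : X) : G) = zz L := by rw [hL']; exact zz_coe w hLO hLX
  have hz' : zz N' ∉ pCore 2 X := fun h1 => hz ⟨_, h1, hzN⟩
  have hc' : zz N' * zz L' = zz L' * zz N' := by
    apply Subtype.ext
    rw [coe_mul, coe_mul, hzN, hzL, hc]
  rw [← hN'] at tw
  have hcen := two_central tw hz'
  -- the automorphism of `X`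
  obtain ⟨β, hβ⟩ : ∃ β : MulAut X, ∀ x : X, ((β x : X) : G) = b * x * b⁻¹ :=
    ⟨X.normalizerMonoidHom ⟨b, hbX⟩, fun x => rfl⟩
  haveI hPc : (pCore 2 X).Characteristic := Lib.Cores.pCore_characteristic 2
  have hPβ : (pCore 2 X).map (β : X →* X) = pCore 2 X := by
    exact characteristic_iff_map_eq.1 hPc β
  obtain ⟨q, hq⟩ : ∃ q, q = QuotientGroup.mk' (pCore 2 X) := ⟨_, rfl⟩
  have hqs : Function.Surjective q := by rw [hq]; exact QuotientGroup.mk'_surjective _
  have hker : q.ker = pCore 2 X := by rw [hq]; exact QuotientGroup.ker_mk' _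
  obtain ⟨β', hβ'⟩ : ∃ β' : MulAut (X ⧸ pCore 2 X), ∀ x : X, β' (q x) = q (β x) :=
    ⟨QuotientGroup.congr (pCore 2 X) (pCore 2 X) β hPβ, fun x => by rw [hq]; rfl⟩
  have hβp : ∀ (n : ℕ) (x : X), (β' ^ n) (q x) = q ((β ^ n) x) := by
    intro n x
    induction n with
    | zero => rfl
    | succ n ih => rw [pow_succ', pow_succ', MulAut.mul_apply, MulAut.mul_apply, ih, hβ']
  have hβ2 : IsPGroup 2 (zpowers β') := by
    obtain ⟨e, he⟩ := (IsPGroup.iff_card (p := 2)).1 hb2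
    rw [Nat.card_zpowers] at he
    refine IsPGroup.iff_card.2 ?_
    rw [Nat.card_zpowers]
    have h1 : β' ^ 2 ^ e = 1 := by
      ext x
      obtain ⟨x, rfl⟩ := hqs x
      rw [hβp]
      have h2 : (β ^ 2 ^ e) x = x := by
        apply Subtype.ext
        rw [aut_pow β hβ, ← he, pow_orderOf_eq_one]
        group
      rw [h2]; rfl
    have h2 := orderOf_dvd_of_pow_eq_one h1
    obtain ⟨k, -, hk⟩ := (Nat.dvd_prime_pow Nat.prime_two).1 h2
    exact ⟨k, hk⟩
  have tw' := tw.quot hqs (by rw [hker]; exact hcen) (by rw [hker]; exact Lib.Cores.pCore_isPGroup 2)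
    (by rw [hker]; exact hz')
  have hp := Lib.Cores.pCore_quotient_pCore (G := X) 2
  have hlt : Nat.card (X ⧸ pCore 2 X) < Nat.card G := by
    have h3 := card_eq_card_quotient_mul_card_subgroup (pCore 2 X)
    have h4 : 0 < Nat.card (pCore 2 X) := Nat.card_pos
    have h5 : Nat.card (X ⧸ pCore 2 X) ≤ Nat.card X := by
      rw [h3]; exact Nat.le_mul_of_pos_right _ h4
    exact h5.trans_lt (card_lt_of_ne_top hX)
  have hinf : ∀ K ∈ cls N', K ⊓ q.ker = ⊥ := by
    rintro _ ⟨g, rfl⟩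
    refine CVW.inf_eq_bot tw.cvw ⟨g, rfl⟩ fun h1 => hz' ?_
    rw [tw.cvw.hyp.zz_cj (self_mem_cls N'), hker] at h1
    have h3 := (Lib.Cores.pCore_normal 2 (G := X)).conj_mem _ h1 g⁻¹
    have h4 : g⁻¹ * (g * zz N' * g⁻¹) * g⁻¹⁻¹ = zz N' := by group
    rwa [h4] at h3
  have hno : ∀ L ∈ cls (N'.map q), ¬ Orth (N'.map q) L := by
    rcases ih _ (N'.map q) _ hlt tw' with h1 | h1
    · exfalso
      rw [hp, mem_bot] at h1
      exact tw'.cvw.hyp.zz_ne (self_mem_cls _) h1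
    · exact h1
  have hcl : L'.map q ∈ cls (N'.map q) := by
    rw [← img_cls hqs]
    exact ⟨L', hLN', rfl⟩
  have hfix : ∀ K : Subgroup X, (∀ n ∈ K.map X.subtype, b * n = n * b) → ∀ n ∈ K.map q, β' n = n := by
    rintro K hK _ ⟨n, hn, rfl⟩
    rw [hβ']
    congr 1
    apply Subtype.ext
    have h1 : b * (n : G) = n * b := hK _ ⟨n, hn, rfl⟩
    rw [hβ, h1, mul_inv_cancel_right]
  have h1 := act_trivial h1173 h1171 (hev _) tw' hp hno hβ2 (hfix N' (by rw [hNe]; exact hbN)) hcl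
    (fun h1 => hNL' (CVW.eq_of_map_eq tw.cvw (by rw [hker]; exact hcen) hinf (self_mem_cls N') hLN' h1))
    (by rw [QuoCen.zz_map_of_inf tw.cvw.hyp (self_mem_cls N') (hinf _ (self_mem_cls N')),
          QuoCen.zz_map_of_inf tw.cvw.hyp hLN' (hinf _ hLN'), ← map_mul, ← map_mul, hc'])
    (hfix L' (by rw [hLe]; exact hbL))
  -- `[b, X]` is central
  have h2 : ∀ x : X, β x * x⁻¹ ∈ center X := by
    intro x
    apply hcen
    rw [← hker, MonoidHom.mem_ker, map_mul, map_inv, ← hβ', h1, mul_inv_eq_one]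
    rfl
  have h3 : ∀ x : X, β x = x := by
    have h4 : normalClosure (N' : Set X) ≤ (MonoidHom.eqLocus (β : X →* X) (MonoidHom.id X)) := by
      rw [normalClosure, closure_le]
      intro x hx
      rw [Group.mem_conjugatesOfSet_iff] at hx
      obtain ⟨a, ha, hax⟩ := hx
      obtain ⟨g, rfl⟩ := isConj_iff.1 hax
      change β (g * a * g⁻¹) = g * a * g⁻¹
      have h5 : β a = a := by
        apply Subtype.ext
        rw [hβ, hbN _ (by rw [← hNe]; exact ⟨a, ha, rfl⟩), mul_inv_cancel_right]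
      have h6 := mem_center_iff.1 (h2 g) (g * a * g⁻¹)
      rw [map_mul, map_mul, map_inv, h5]
      have h7 : β g * a * (β g)⁻¹ = (β g * g⁻¹) * (g * a * g⁻¹) * (β g * g⁻¹)⁻¹ := by group
      rw [h7, ← h6, mul_inv_cancel_right]
    intro x
    have h5 : x ∈ normalClosure (N' : Set X) := by rw [tw.gen]; exact mem_top x
    exact h4 h5
  intro x hx
  have h4 := congrArg Subtype.val (h3 ⟨x, hx⟩)
  rw [hβ, mul_inv_eq_iff_eq_mul] at h4
  exact h4

end cent

/-! ### (F5) -/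

section ffive

variable {G : Type u} [Group G] [Finite G] {Om : Set (Subgroup G)} {U : Subgroup G → Subgroup G} {H K L M N T X : Subgroup G}
  {b g : G}

theorem zz_mem_two (e : Elem Om U) (hK : K ∈ Om) {T : Subgroup G} (hT : Syl T (centralizer {zz K})) : zz K ∈ T := by
  have h1 : zpowers (zz K) ≤ normalizer (T : Set G) := by
    rw [zpowers_le]
    refine OneBasic.mem_normalizer_of_cent fun x hx => ?_
    exact (mem_centralizer_singleton_iff.1 (hT.1 hx)).symm
  exact OneBasic.syl_le_of_normalizes' hT (OneF.isPGroup_zpowers_zz e.cvw.hyp hK)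
    (zpowers_le.2 (mem_centralizer_singleton_iff.2 rfl)) h1 (mem_zpowers _)

theorem not_dvd_of_subnormal {T H X : Subgroup G} (hT : Syl T H) (hXH : X ≤ H) (hs : (X.subgroupOf H).IsSubnormal) :
    ¬ 2 ∣ T.relIndex X := by
  haveI : Fact (Nat.Prime 2) := ⟨Nat.prime_two⟩
  have h1 : IsPGroup 2 (T.subgroupOf H) := hT.2.1.comap_subtype
  obtain ⟨P, hP⟩ := S0542.result 2 (X.subgroupOf H) hs (h1.toSylow hT.2.2)
  have h2 := P.not_dvd_index
  rw [hP] at h2
  have h3 : ¬ 2 ∣ (T.subgroupOf H).relIndex (X.subgroupOf H) := h2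
  rwa [relIndex_subgroupOf hXH] at h3

/-- **(F5)** -/
theorem f5 (h1173 : ∀ (G : Type u) [Group G] [Finite G], oddCore G = ⊥ → OneF.H1173 G)
    (h1171 : ∀ (G : Type u) [Group G] [Finite G], OneF.H1171 G) (hev : ∀ (G : Type u) [Group G] [Finite G], EvQ G)
    (ih : TLt.{u} (Nat.card G)) (e : Elem Om U) (hcf : ∀ t : G, orderOf t = 2 → pPrimeCore 2 (centralizer {t} : Subgroup G) = ⊥)
    (hZ : ∀ t : G, orderOf t = 2 → centralizer {t} ≠ ⊤) (hlk : ∀ K ∈ Om, ∃ L, Lkd Om K L)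
    (hKL : Lkd Om K L) (hM : M ∈ Om) (hKM : Orth K M) : Orth L M := by
  haveI : Fact (Nat.Prime 2) := ⟨Nat.prime_two⟩
  have w := e.cvw
  have hzK := w.hyp.orderOf_zz hKL.mK
  obtain ⟨H, hH⟩ : ∃ H : Subgroup G, H = centralizer {zz K} := ⟨_, rfl⟩
  have hHc : pPrimeCore 2 H = ⊥ := by rw [hH]; exact hcf _ hzK
  have hHt : H ≠ ⊤ := by rw [hH]; exact hZ _ hzK
  have orthH : ∀ N : Subgroup G, Orth K N → N ≤ H := by
    intro N hKN x hx
    rw [hH, mem_centralizer_singleton_iff]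
    exact (hKN.2 _ (w.hyp.zz_mem hKL.mK) x hx).symm
  have htH : zz L ∈ H := by rw [hH, mem_centralizer_singleton_iff]; exact hKL.comm.symm
  have hMH : M ≤ H := orthH M hKM
  obtain ⟨X, hX⟩ := exists_snc hMH
  have hXt : X ≠ ⊤ := fun h => hHt (top_le_iff.1 (h ▸ hX.XH))
  -- `K` is normal in `H`
  have hHK : H ≤ normalizer (K : Set G) := by
    intro g hg
    rw [hH, mem_centralizer_singleton_iff] at hg
    exact e.norm hKL.mK hg
  -- the members of the block of `M` are orthogonal to `K`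
  have hblk : ∀ N ∈ BL M X, Orth K N := by
    rintro N ⟨g, hg, rfl⟩
    have h1 := CVT.orth_cj hKM g
    rwa [mem_normalizer_iff_cj.1 (hHK (hX.XH hg))] at h1
  -- (E3) : a member orthogonal to `K` lying with `zz K`, `zz L` in a 2-group is orthogonal to `L`
  have htr : ∀ T : Subgroup G, IsPGroup 2 T → zz K ∈ T → zz L ∈ T → ∀ N ∈ Om, zz N ∈ T → Orth K N → Orth L N := by
    intro T hT hKT hLT N hN hNT hKN
    by_contra hcon
    exact e.trans T hT K hKL.mK L hKL.mL N hN hKT hLT hNT hKL.north hcon hKN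
  -- a Sylow 2-subgroup of `H` containing `zz L`
  obtain ⟨T, hT, hLT⟩ := OneBasic.exists_syl_ge (OneF.isPGroup_zpowers_zz w.hyp hKL.mL) (zpowers_le.2 htH)
  have hLT' : zz L ∈ T := hLT (mem_zpowers _)
  have hKT : zz K ∈ T := zz_mem_two e hKL.mK (by rw [← hH]; exact hT)
  by_cases hz : zz M ∈ (pCore 2 X).map X.subtype
  · -- `zz M ∈ O_2(H) ≤ T`
    have h1 := hX.two hz
    have h2 : (pCore 2 H).map H.subtype ≤ T := by
      have h3 : IsPGroup 2 ((pCore 2 H).map H.subtype) := (Lib.Cores.pCore_isPGroup 2).map _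
      refine OneBasic.syl_le_of_normalizes hT h3 (map_subtype_le _) (hT.1.trans ?_)
      have h4 := le_normalizer_map (H := pCore 2 H) H.subtype
      rw [normalizer_eq_top_iff.2 (Lib.Cores.pCore_normal 2), ← MonoidHom.range_eq_map, range_subtype] at h4
      exact h4
    exact htr T hT.2.1 hKT hLT' M hM (h2 h1) hKM
  · -- a conjugate `N ≤ T` of `M`
    obtain ⟨N, hN, hNT⟩ : ∃ N ∈ BL M X, N ≤ T := by
      have h1 := not_dvd_of_subnormal hT hX.XH hX.sn
      obtain ⟨R, hR, hMR⟩ := OneBasic.exists_syl_ge (w.two M hM) hX.KX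
      have h2 : Syl (T ⊓ X) X := ⟨inf_le_right, hT.2.1.to_le inf_le_left, by rwa [inf_relIndex_right]⟩
      obtain ⟨g, hg, hgR⟩ := hR.exists_conj h2
      refine ⟨cj g M, ⟨g, hg, rfl⟩, ?_⟩
      have h3 := cj_mono g hMR
      rw [hgR] at h3
      exact h3.trans inf_le_left
    have hNO : N ∈ Om := BL_mem w hM hN
    have hXN : SNC H N X := hX.of_BL hN
    have hzN : zz N ∉ (pCore 2 X).map X.subtype := by
      obtain ⟨g, hg, rfl⟩ := hN
      intro h1
      apply hz
      rw [w.hyp.zz_cj hM] at h1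
      obtain ⟨x, hx, hxz⟩ := h1
      refine ⟨(⟨g, hg⟩ : X)⁻¹ * x * (⟨g, hg⟩ : X)⁻¹⁻¹, (Lib.Cores.pCore_normal 2 (G := X)).conj_mem _ hx _, ?_⟩
      rw [map_mul, map_mul, hxz]
      change g⁻¹ * (g * zz M * g⁻¹) * g⁻¹⁻¹ = zz M
      group
    have hKN : Orth K N := hblk N hN
    have hLN : Orth L N := htr T hT.2.1 hKT hLT' N hNO (hNT (w.hyp.zz_mem hNO)) hKN
    -- the Sylow 2-subgroup `R` of `C(zz N)`
    have h2E : IsPGroup 2 (zpowers (zz K) ⊔ zpowers (zz L) : Subgroup G) :=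
      OneF.exists_two_of_commute (OneF.isPGroup_zpowers_zz w.hyp hKL.mK) (OneF.isPGroup_zpowers_zz w.hyp hKL.mL) hKL.comm
    have hEC : (zpowers (zz K) ⊔ zpowers (zz L) : Subgroup G) ≤ centralizer {zz N} := by
      rw [sup_le_iff, zpowers_le, zpowers_le, mem_centralizer_singleton_iff, mem_centralizer_singleton_iff]
      exact ⟨hKN.2 _ (w.hyp.zz_mem hKL.mK) _ (w.hyp.zz_mem hNO), hLN.2 _ (w.hyp.zz_mem hKL.mL) _ (w.hyp.zz_mem hNO)⟩
    obtain ⟨R, hR, hER⟩ := OneBasic.exists_syl_ge h2E hEC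
    have hKR : zz K ∈ R := hER (mem_sup_left (mem_zpowers _))
    have hLR : zz L ∈ R := hER (mem_sup_right (mem_zpowers _))
    have hNR : zz N ∈ R := zz_mem_two e hNO hR
    -- a linked member `N₀`
    obtain ⟨N₀, hl, hN₀R⟩ : ∃ N₀, Lkd Om N N₀ ∧ zz N₀ ∈ R := by
      obtain ⟨N₁, h1⟩ := hlk N hNO
      obtain ⟨R₁, hR₁, hNR₁⟩ := OneBasic.exists_syl_ge (OneF.isPGroup_zpowers_zz w.hyp h1.mL)
        (zpowers_le.2 (mem_centralizer_singleton_iff.2 h1.comm.symm))
      obtain ⟨c, hc, hcR⟩ := hR₁.exists_conj hR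
      refine ⟨cj c N₁, ?_, ?_⟩
      · have h2 := h1.cj w.hyp c
        rwa [e.cj_eq hNO (mem_centralizer_singleton_iff.1 hc)] at h2
      · rw [w.hyp.zz_cj h1.mL, ← hcR]
        exact conj_mem_cj (hNR₁ (mem_zpowers _))
    have hO : ∀ J ∈ Om, zz J ∈ R → Orth J N → Orth J N₀ := by
      intro J hJ hJR hJN
      by_contra hcon
      exact e.trans R hR.2.1 J hJ N₀ hl.mL N hNO hJR hN₀R hNR hcon (fun h => hl.north (Orth.symm' h)) hJN
    have hKN₀ := hO K hKL.mK hKR hKN
    have hLN₀ := hO L hKL.mL hLR hLN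
    have hN₀B : N₀ ∈ BL N X := by
      obtain ⟨M₁, h1, h2, h3, ⟨y, hy, h4⟩, -⟩ := e.third N N₀ hl
      obtain ⟨M₂, h5, h6, h7, ⟨x, hx, h8⟩, -⟩ := e.third N₀ M₁ h2
      have h9 : M₂ = N := by
        refine e.inj _ h5.mL _ hNO ?_
        rw [h7, h3, hl.comm, ← mul_assoc, w.hyp.zz_mul hl.mL, one_mul]
      refine hXN.lk_BL self_mem_BL (orthH N₀ hKN₀) hy (x := x) ?_ ?_
      · rw [← h4]; exact hx
      · rw [← h8, h9]
    have hcen := cent_of h1173 h1171 hev ih w hNO hXN hHc hXt hzN (OneF.isPGroup_zpowers_zz w.hyp hKL.mL)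
      (hXN.norm (le_normalizer htH) (OneBasic.mem_normalizer_of_cent fun x hx => hLN.2 _ (w.hyp.zz_mem hKL.mL) x hx))
      (fun n hn => hLN.2 _ (w.hyp.zz_mem hKL.mL) n hn) hN₀B hl.ne hl.comm
      (fun n hn => hLN₀.2 _ (w.hyp.zz_mem hKL.mL) n hn)
    have hLM : ∀ m ∈ M, zz L * m = m * zz L := fun m hm => hcen m (hX.KX hm)
    rcases e.orth_or hKL.mL hM (hLM _ (w.hyp.zz_mem hM)) with h1 | h1 | h1
    · exact absurd (by rw [h1]; exact hKM) hKL.north
    · exact h1
    · exfalso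
      obtain ⟨y, hy, hne⟩ := e.moves L M h1
      exact hne (hLM y hy).symm

end ffive

end Cfsg.Agent.Cit.Nil.CVA2
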