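import Cfsg.Agent.Cit.Nil.CVA2.Conn0A
import Cfsg.Agent.Cit.Nil.CV.FW

/-!
# (6b)(CV): the involutions `zz K` lie in the simple normal subgroup

* `zF` : `zz K ∈ F`, for every world `CVW`.
-/

set_option autoImplicit false
set_option linter.style.haveILetI false
set_option linter.unusedSectionVars false

namespace Cfsg.Agent.Cit.Nil.CVA2

open Subgroup Cfsg Cit Tau CV CV1 CVT Cfsg.Agent.Cit.Comp
open Cfsg.Agent.Cit.Nil.ROne (FSimp)

variable {G : Type*} [Group G] [Finite G] {Om : Set (Subgroup G)} {U : Subgroup G → Subgroup G} {F : Subgroup G}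

/-- the simple normal subgroup has even order -/
theorem fs_even (f : FSimp F) (hev : EvQ G) : 2 ∣ Nat.card F := hev F (fs_quasi f)

/-- **`zz K ∈ F`** -/
theorem zF_of (h : CVW Om U) (f : FSimp F) (h2 : 2 ∣ Nat.card F) : ∀ K ∈ Om, zz K ∈ F :=
  fun _ hK => CVW.mem_of_fsimp h f h2 hK

theorem zF (e : Elem Om U) (f : FSimp F) (hev : EvQ G) : ∀ K ∈ Om, zz K ∈ F := zF_of e.cvw f (fs_even f hev)

end Cfsg.Agent.Cit.Nil.CVA2
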