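import Cfsg.Agent.Cit.Nil.CVA2.Conn
import Cfsg.Agent.Cit.Nil.CVA2.Conn0S
import Cfsg.Agent.Cit.Nil.CVA2.End
import Cfsg.Agent.Cit.Nil.CVA2.ZF
import Cfsg.Agent.Cit.Nil.CVA2.FFive
import Cfsg.Agent.Cit.Nil.CVT.ExTwo
import Cfsg.Agent.Cit.Nil.CVA.Elem
import Cfsg.Agent.Cit.Nil.CVT.IndOf
import Cfsg.Agent.Cit.Nil.CVT.RkThree

/-!
# (6b)(CV), components of type `A2`: the assembly

* `elemStmt`, `conn0Stmt` ;
* `F5Stmt` : linked members have the same orthogonal members;
* `a2` : in the simple case, core-free, with all components of type `A2`, there are no orthogonal members;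
* `a2_of` : the same from the external theorems.
-/

set_option autoImplicit false
set_option linter.style.haveILetI false
set_option linter.unusedSectionVars false

namespace Cfsg.Agent.Cit.Nil.CVA2

open Subgroup Cfsg Cit Tau CV CV1 CVT Cfsg.Agent.Cit.Comp
open Cfsg.Agent.Cit.Nil.ROne (FSimp)

universe u

theorem elemStmt : ElemStmt.{u} := fun _ _ _ _ _ c => CVA.elem c

/-- **(F5)** : linked members have the same orthogonal members -/
def F5Stmt : Prop := ∀ (G : Type u) [Group G] [Finite G] (K : Subgroup G) (U : Subgroup G → Subgroup G)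
  (F : Subgroup G), SC K U F → (∀ t : G, orderOf t = 2 → centralizerPPrimeCore 2 t = ⊥) → CVA.AW (cls K) U →
  ∀ M L N, Lkd (cls K) M L → N ∈ cls K → Orth M N → Orth L N

/-- a simple normal subgroup with trivial centraliser: the centre is trivial -/
theorem cent_ne_top {G : Type*} [Group G] {F : Subgroup G} (f : FSimp F) {e : G} (he : e ≠ 1) :
    centralizer ({e} : Set G) ≠ ⊤ := by
  intro h
  apply he
  have h1 : e ∈ centralizer (F : Set G) := by
    rw [mem_centralizer_iff]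
    intro x _
    exact mem_centralizer_singleton_iff.1 (by rw [h]; exact mem_top x)
  rwa [f.cen, mem_bot] at h1

/-- **the case `A2`** -/
theorem a2 (hev : ∀ (G : Type u) [Group G] [Finite G], EvQ G)
    (c75 : ∀ (X : Type u) [Group X] [Finite X] [IsSimpleGroup X], CloEnd.Crit1175 X) (h0 : Conn0Stmt.{u})
    (h5 : F5Stmt.{u}) {G : Type u} [Group G] [Finite G] {K F : Subgroup G} {U : Subgroup G → Subgroup G} (s : SC K U F)
    (hcf : ∀ t : G, orderOf t = 2 → centralizerPPrimeCore 2 t = ⊥)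
    (hr : ∀ A, IsA (cls K) U A → RkTwo (cls K) U A) : ∀ L ∈ cls K, ¬ Orth K L := by
  intro L hL ho
  have w : CVA.AW (cls K) U := ⟨s.cvw, hr⟩
  have e : Elem (cls K) U := CVA.elem w
  haveI := s.f.sim
  refine false_of e cls_conj s.f (zF_of s.cvw s.f s.even) (h5 G K U F s hcf w) ?_ ⟨K, self_mem_cls K, L, hL, ho⟩ (c75 F)
  intro u hu M hM hMu
  obtain ⟨X, hX⟩ := exists_snc hMu
  have hu1 : u ≠ 1 := by
    rintro rfl
    rw [orderOf_one] at hu
    exact absurd hu (by norm_num)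
  refine ⟨X, hX, conn elemStmt h0 hev e s.ih hX hM (pPrimeCore_cent (hcf u hu)) ?_⟩
  intro hXt
  exact cent_ne_top s.f hu1 (top_le_iff.1 (hXt.symm.trans_le hX.XH))

/-- `F5Stmt` -/
theorem f5Stmt_of (h1173 : ∀ (G : Type u) [Group G] [Finite G], oddCore G = ⊥ → OneF.H1173 G)
    (h1171 : ∀ (G : Type u) [Group G] [Finite G], OneF.H1171 G) (hev : ∀ (G : Type u) [Group G] [Finite G], EvQ G) :
    F5Stmt.{u} := by
  intro G _ _ K U F s hcf w M L N hl hN ho
  have ne1 : ∀ {t : G}, orderOf t = 2 → t ≠ 1 := by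
    rintro t ht rfl
    rw [orderOf_one] at ht
    exact absurd ht (by norm_num)
  refine f5 h1173 h1171 hev s.ih (CVA.elem w) (fun t ht => pPrimeCore_cent (hcf t ht))
    (fun t ht => cent_ne_top s.f (ne1 ht)) ?_ hl hN ho
  intro M hM
  obtain ⟨v, hv, hv4⟩ := s.cvw.exists_v hM
  obtain ⟨A, hA, hvA, -⟩ := w.exists_A2 (w.rt_root hM hv hv4) (w.rt_root hM hv hv4) rfl
  obtain ⟨x, hx, hlk⟩ := w.exists_lk hA hvA
  obtain ⟨-, -, L, hL, hxL⟩ := id hx
  exact ⟨L, w.lkd_of ⟨hM, hL, A, hA, v, hv, x, hxL, hvA, hx, hlk⟩⟩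

/-- **the case `A2`, from the external theorems** -/
theorem a2_of (h1173 : ∀ (G : Type u) [Group G] [Finite G], oddCore G = ⊥ → OneF.H1173 G)
    (h1171 : ∀ (G : Type u) [Group G] [Finite G], OneF.H1171 G) (hev : ∀ (G : Type u) [Group G] [Finite G], EvQ G)
    (c75 : ∀ (X : Type u) [Group X] [Finite X] [IsSimpleGroup X], CloEnd.Crit1175 X) (bend : BendStmt.{u})
    {G : Type u} [Group G] [Finite G] {K F : Subgroup G} {U : Subgroup G → Subgroup G} (s : SC K U F)
    (hcf : ∀ t : G, orderOf t = 2 → centralizerPPrimeCore 2 t = ⊥)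
    (hr : ∀ A, IsA (cls K) U A → RkTwo (cls K) U A) : ∀ L ∈ cls K, ¬ Orth K L :=
  a2 hev c75 (conn0Stmt c75 bend) (f5Stmt_of h1173 h1171 hev) s hcf hr

end Cfsg.Agent.Cit.Nil.CVA2
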