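import Cfsg.Agent.Cit.Nil.CVA2.Conn0A
import Cfsg.Agent.TwoFusion.StronglyEmbeddedBasic

/-!
# (6b)(CV), components of type `A2`: CONN0, part B

`F` has no strongly embedded subgroup. `BSyl F` : the facts on the Sylow 2-subgroups of the groups of Bender's list.
-/

set_option autoImplicit false
set_option linter.style.haveILetI false
set_option linter.unusedSectionVars false

namespace Cfsg.Agent.Cit.Nil.CVA2

open Subgroup Cfsg Cit Tau CV CV1 CVT Cfsg.Agent.Cit.Comp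
open Cfsg.Agent.Cit.Nil.ROne (FSimp)

/-- the facts on the Sylow 2-subgroups of the groups of Bender's list -/
def BSyl (G : Type*) [Group G] : Prop := ∀ S : Sylow 2 G,
  (∀ x ∈ S, x * x = 1 → ∀ y ∈ S, x * y = y * x) ∧
  ((∀ x ∈ S, x * x = 1) ∨ 8 ≤ Nat.card {x : G // x ∈ S ∧ x * x = 1} ∨
    (64 ≤ Nat.card S ∧ ∀ x ∈ S, x * x * (x * x) = 1))

variable {G : Type*} [Group G] [Finite G] {Om : Set (Subgroup G)} {U : Subgroup G → Subgroup G}
  {A F K L M N P Q R S T X : Subgroup G} {a b c g r s t u v w x y z : G}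

/-- involutions of a 2-subgroup of `F` are central in it -/
theorem inv_comm (hb : BSyl F) (hQ : IsPGroup 2 Q) (hQF : Q ≤ F) (hx : x ∈ Q) (hx2 : x * x = 1) (hy : y ∈ Q) :
    x * y = y * x := by
  haveI : Fact (Nat.Prime 2) := ⟨Nat.prime_two⟩
  have h1 : IsPGroup 2 (Q.subgroupOf F) := hQ.comap_subtype
  obtain ⟨S, hS⟩ := h1.exists_le_sylow
  have h2 := (hb S).1 ⟨x, hQF hx⟩ (hS hx) (Subtype.ext hx2) ⟨y, hQF hy⟩ (hS hy)
  exact congrArg Subtype.val h2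

/-- some power of a nontrivial element of a 2-group is an involution -/
theorem exists_inv_pow (hQ : IsPGroup 2 Q) (hx : x ∈ Q) (hx1 : x ≠ 1) : ∃ m : ℕ, x ^ m * x ^ m = 1 ∧ x ^ m ≠ 1 := by
  obtain ⟨k, hk⟩ := hQ ⟨x, hx⟩
  have hk' : x ^ 2 ^ k = 1 := congrArg Subtype.val hk
  clear hk
  induction k with
  | zero => exact absurd (by simpa using hk') hx1
  | succ k ih =>
    by_cases h : x ^ 2 ^ k = 1
    · exact ih h
    · refine ⟨2 ^ k, ?_, h⟩
      rw [← pow_add, ← two_mul, ← pow_succ']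
      exact hk'

/-- the situation: `F` has a strongly embedded subgroup, `K`, `L`, `M` is a component in the Sylow group `P` -/
structure SE (Om : Set (Subgroup G)) (U : Subgroup G → Subgroup G) (F K L M P : Subgroup G) : Prop where
  e : Elem Om U
  f : FSimp F
  no : ∀ K ∈ Om, ∀ L ∈ Om, ¬ Orth K L
  one : ∀ K ∈ Om, ∀ L ∈ Om, ∃ g, L = cj g K
  zF : ∀ K ∈ Om, zz K ∈ F
  inv : ∀ t ∈ F, t * t = 1 → t ≠ 1 → ∃ N ∈ Om, zz N = t
  conj : ∀ K ∈ Om, ∀ L ∈ Om, ∃ g ∈ F, g * zz K * g⁻¹ = zz L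
  bs : BSyl F
  KL : Lkd Om K L
  KM : Lkd Om K M
  LM : Lkd Om L M
  zM : zz M = zz K * zz L
  syl : Syl P ⊤
  UK : U K ≤ P
  UL : U L ≤ P

namespace SE

variable (h : SE Om U F K L M P)
include h

theorem z1P : zz K ∈ P := zz_mem_of_U h.e h.KL.mK h.UK
theorem z2P : zz L ∈ P := zz_mem_of_U h.e h.KL.mL h.UL
theorem z1S : zz K ∈ P ⊓ F := ⟨h.z1P, h.zF _ h.KL.mK⟩
theorem z2S : zz L ∈ P ⊓ F := ⟨h.z2P, h.zF _ h.KL.mL⟩
theorem z3S : zz M ∈ P ⊓ F := by rw [h.zM]; exact mul_mem h.z1S h.z2S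

theorem two_S : IsPGroup 2 (P ⊓ F : Subgroup G) := h.syl.2.1.to_le inf_le_left

theorem syl_S : Syl (P ⊓ F) F := syl_F h.f h.syl

/-- an involution of `F` commuting with `zz K`, `zz L` -/
theorem mem_three (ht : t ∈ F) (htt : t * t = 1) (ht1 : t ≠ 1) (h1 : t * zz K = zz K * t) (h2 : t * zz L = zz L * t) :
    t = zz K ∨ t = zz L ∨ t = zz M := by
  obtain ⟨N, hN, rfl⟩ := h.inv t ht htt ht1
  by_contra hcon
  push Not at hcon
  have h3 : zz N * zz M = zz M * zz N := by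
    rw [h.zM, ← mul_assoc, h1, mul_assoc, h2, mul_assoc]
  have k1 : Lkd Om K N := lkd_of h.e h.no h.KL.mK hN (fun hh => hcon.1 (by rw [hh])) h1.symm
  have k2 : Lkd Om L N := lkd_of h.e h.no h.KL.mL hN (fun hh => hcon.2.1 (by rw [hh])) h2.symm
  have k3 : Lkd Om M N := lkd_of h.e h.no h.KM.mL hN (fun hh => hcon.2.2 (by rw [hh])) h3.symm
  exact h.e.four K L M N h.KL h.KM k1 h.LM k2 k3

theorem comm_z1 (hs : s ∈ P ⊓ F) : s * zz K = zz K * s :=
  (inv_comm h.bs h.two_S inf_le_right h.z1S (h.e.cvw.hyp.zz_mul h.KL.mK) hs).symm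

theorem comm_z2 (hs : s ∈ P ⊓ F) : s * zz L = zz L * s :=
  (inv_comm h.bs h.two_S inf_le_right h.z2S (h.e.cvw.hyp.zz_mul h.KL.mL) hs).symm

/-- the involutions of `S = P ⊓ F` -/
theorem inv_S (hs : s ∈ P ⊓ F) (hss : s * s = 1) (hs1 : s ≠ 1) : s = zz K ∨ s = zz L ∨ s = zz M :=
  h.mem_three hs.2 hss hs1 (h.comm_z1 hs) (h.comm_z2 hs)

/-! ### `v ∈ F` -/

theorem vw_comm (hv : v ∈ U K) (hw : w ∈ U L) : v * w = w * v :=
  h.e.commV K h.KL.mK L h.KL.mL h.KL.comm v hv w hw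

/-- the elements of `S` commuting with `v` -/
theorem mem_D (hx4 : ∀ x ∈ P ⊓ F, x * x * (x * x) = 1) (hv : v ∈ U K) (hv4 : orderOf v = 4) (hw : w ∈ U L)
    (hw4 : orderOf w = 4) (hvF : v ∈ F) (hwF : w ∈ F) (hx : x ∈ P ⊓ F) (hc : x * v = v * x) :
    ∃ t ∈ ({1, zz K, zz L, zz M} : Set G), ∃ a ∈ ({1, v, w, v * w} : Set G), x = t * a := by
  have hvS : v ∈ P ⊓ F := ⟨h.UK hv, hvF⟩
  have hwS : w ∈ P ⊓ F := ⟨h.UL hw, hwF⟩
  have hvv := h.e.cvw.sq_eq h.KL.mK hv hv4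
  have hww := h.e.cvw.sq_eq h.KL.mL hw hw4
  have hvw := h.vw_comm hv hw
  have hxw : x * w = w * x := by
    have h1 := (h.e.sign K L h.KL x (h.comm_z1 hx) (h.comm_z2 hx) v hv hv4 w hw hw4).1 (by
      rw [hc, mul_inv_cancel_right])
    rwa [mul_inv_eq_iff_eq_mul] at h1
  -- `x * x = a * a`
  have key : ∀ a ∈ P ⊓ F, x * a = a * x → x * x = a * a → ∃ t ∈ ({1, zz K, zz L, zz M} : Set G), x = t * a := by
    intro a ha hxa hxx
    refine ⟨x * a⁻¹, ?_, by group⟩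
    have h1 : x * a⁻¹ * (x * a⁻¹) = 1 := by
      have h2 : a⁻¹ * x = x * a⁻¹ := by rw [inv_mul_eq_iff_eq_mul, ← mul_assoc, ← hxa, mul_inv_cancel_right]
      calc x * a⁻¹ * (x * a⁻¹) = x * (a⁻¹ * x) * a⁻¹ := by group
        _ = x * (x * a⁻¹) * a⁻¹ := by rw [h2]
        _ = (x * x) * (a * a)⁻¹ := by group
        _ = 1 := by rw [hxx, mul_inv_cancel]
    by_cases h3 : x * a⁻¹ = 1
    · rw [h3]; exact Or.inl rfl
    · rcases h.inv_S (mul_mem hx (inv_mem ha)) h1 h3 with h4 | h4 | h4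
      · rw [h4]; exact Or.inr (Or.inl rfl)
      · rw [h4]; exact Or.inr (Or.inr (Or.inl rfl))
      · rw [h4]; exact Or.inr (Or.inr (Or.inr rfl))
  by_cases h1 : x * x = 1
  · obtain ⟨t, ht, hxt⟩ := key 1 (one_mem _) (by rw [mul_one, one_mul]) (by rw [h1, one_mul])
    exact ⟨t, ht, 1, Or.inl rfl, hxt⟩
  · rcases h.inv_S (mul_mem hx hx) (hx4 x hx) h1 with h2 | h2 | h2
    · obtain ⟨t, ht, hxt⟩ := key v hvS hc (by rw [h2, hvv])
      exact ⟨t, ht, v, Or.inr (Or.inl rfl), hxt⟩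
    · obtain ⟨t, ht, hxt⟩ := key w hwS hxw (by rw [h2, hww])
      exact ⟨t, ht, w, Or.inr (Or.inr (Or.inl rfl)), hxt⟩
    · obtain ⟨t, ht, hxt⟩ := key (v * w) (mul_mem hvS hwS) (by rw [← mul_assoc, hc, mul_assoc, hxw, mul_assoc]) (by
        rw [h2, h.zM, ← hvv, ← hww]
        calc v * v * (w * w) = v * (v * w) * w := by group
          _ = v * (w * v) * w := by rw [hvw]
          _ = v * w * (v * w) := by group)
      exact ⟨t, ht, v * w, Or.inr (Or.inr (Or.inr rfl)), hxt⟩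

theorem card_S_le (hx4 : ∀ x ∈ P ⊓ F, x * x * (x * x) = 1) (hv : v ∈ U K) (hv4 : orderOf v = 4) (hw : w ∈ U L)
    (hw4 : orderOf w = 4) (hvF : v ∈ F) (hwF : w ∈ F) : Nat.card (P ⊓ F : Subgroup G) ≤ 32 := by
  classical
  -- `s₀`
  obtain ⟨s₀, hs₀, hcov⟩ : ∃ s₀ ∈ P ⊓ F, ∀ s ∈ P ⊓ F, s * v = v * s ∨ (s₀⁻¹ * s) * v = v * (s₀⁻¹ * s) := by
    by_cases h1 : ∃ s₀ ∈ P ⊓ F, s₀ * v ≠ v * s₀
    · obtain ⟨s₀, hs₀, hne⟩ := h1
      refine ⟨s₀, hs₀, fun s hs => ?_⟩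
      by_cases h2 : s * v = v * s
      · exact Or.inl h2
      · right
        have key : ∀ s ∈ P ⊓ F, s * v ≠ v * s → s * v * s⁻¹ = v⁻¹ := by
          intro s hs hne
          rcases h.e.cvw.conj_or h.KL.mK (h.e.norm h.KL.mK (h.comm_z1 hs)) hv hv4 with h3 | h3
          · rw [mul_inv_eq_iff_eq_mul] at h3
            exact absurd h3 hne
          · exact h3
        have h3 := key s hs h2
        have h4 := key s₀ hs₀ hne
        have h5 : s₀⁻¹ * v⁻¹ * s₀ = v := by rw [← h4]; group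
        have h6 : (s₀⁻¹ * s) * v * (s₀⁻¹ * s)⁻¹ = v := by
          calc (s₀⁻¹ * s) * v * (s₀⁻¹ * s)⁻¹ = s₀⁻¹ * (s * v * s⁻¹) * s₀ := by group
            _ = v := by rw [h3, h5]
        rwa [mul_inv_eq_iff_eq_mul] at h6
    · push Not at h1
      exact ⟨1, one_mem _, fun s hs => Or.inl (h1 s hs)⟩
  let b : Bool → G := fun i => cond i 1 s₀
  let t : Fin 4 → G := ![1, zz K, zz L, zz M]
  let a : Fin 4 → G := ![1, v, w, v * w]
  have h1 : ∀ s : (P ⊓ F : Subgroup G), ∃ i : Bool × Fin 4 × Fin 4, (s : G) = b i.1 * (t i.2.1 * a i.2.2) := by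
    have h2 : ∀ x ∈ ({1, zz K, zz L, zz M} : Set G), ∃ i, t i = x := by
      rintro x (rfl | rfl | rfl | rfl)
      exacts [⟨0, rfl⟩, ⟨1, rfl⟩, ⟨2, rfl⟩, ⟨3, rfl⟩]
    have h3 : ∀ x ∈ ({1, v, w, v * w} : Set G), ∃ i, a i = x := by
      rintro x (rfl | rfl | rfl | rfl)
      exacts [⟨0, rfl⟩, ⟨1, rfl⟩, ⟨2, rfl⟩, ⟨3, rfl⟩]
    rintro ⟨s, hs⟩
    rcases hcov s hs with h4 | h4
    · obtain ⟨t', ht', a', ha', hst⟩ := h.mem_D hx4 hv hv4 hw hw4 hvF hwF hs h4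
      obtain ⟨i, rfl⟩ := h2 t' ht'
      obtain ⟨j, rfl⟩ := h3 a' ha'
      exact ⟨(true, i, j), by change s = 1 * _; rw [one_mul, hst]⟩
    · obtain ⟨t', ht', a', ha', hst⟩ := h.mem_D hx4 hv hv4 hw hw4 hvF hwF (mul_mem (inv_mem hs₀) hs) h4
      obtain ⟨i, rfl⟩ := h2 t' ht'
      obtain ⟨j, rfl⟩ := h3 a' ha'
      exact ⟨(false, i, j), by change s = s₀ * _; rw [← hst, mul_inv_cancel_left]⟩
  choose i hi using h1
  have h2 : Function.Injective i := by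
    intro s s' hss
    apply Subtype.ext
    rw [hi s, hi s', hss]
  have h3 := Nat.card_le_card_of_injective i h2
  have h4 : Nat.card (Bool × Fin 4 × Fin 4) = 32 := by
    rw [Nat.card_eq_fintype_card]; rfl
  omega

/-- `v ∉ F` -/
theorem not_mem_F (hv : v ∈ U K) (hv4 : orderOf v = 4) : v ∉ F := by
  classical
  intro hvF
  haveI := h.f.nor
  have hKO := h.KL.mK
  have hLO := h.KL.mL
  obtain ⟨g, hg⟩ := h.one K hKO L hLO
  obtain ⟨w, hw⟩ : ∃ w, w = g * v * g⁻¹ := ⟨_, rfl⟩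
  have hwL : w ∈ U L := by rw [hg, hw]; exact h.e.cvw.vch.conj_mem hKO hv g
  have hw4 : orderOf w = 4 := by rw [hw]; exact orderOf_conj_four hv4 g
  have hwF : w ∈ F := by rw [hw]; exact h.f.nor.conj_mem v hvF g
  have hvS : v ∈ P ⊓ F := ⟨h.UK hv, hvF⟩
  obtain ⟨S', hS'⟩ := h.syl_S.exists_sylow
  have hmem : ∀ x : F, x ∈ S' ↔ (x : G) ∈ P ⊓ F := by
    intro x
    have h1 : x ∈ (S' : Subgroup F) ↔ (x : G) ∈ P ⊓ F := by rw [hS', mem_subgroupOf]
    exact h1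
  rcases (h.bs S').2 with h1 | h1 | ⟨h1, h2⟩
  · have h2 : (⟨v, hvF⟩ : F) * ⟨v, hvF⟩ = 1 := h1 _ ((hmem _).2 hvS)
    have h3 : v * v = 1 := congrArg Subtype.val h2
    rw [h.e.cvw.sq_eq hKO hv hv4] at h3
    exact h.e.cvw.hyp.zz_ne hKO h3
  · let t : Fin 4 → G := ![1, zz K, zz L, zz M]
    have h2 : ∀ x : {x : F // x ∈ S' ∧ x * x = 1}, ∃ i : Fin 4, ((x : F) : G) = t i := by
      rintro ⟨x, hx, hxx⟩
      by_cases hx1 : (x : G) = 1
      · exact ⟨0, hx1⟩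
      · rcases h.inv_S ((hmem x).1 hx) (congrArg Subtype.val hxx) hx1 with h3 | h3 | h3
        exacts [⟨1, h3⟩, ⟨2, h3⟩, ⟨3, h3⟩]
    choose i hi using h2
    have h3 : Function.Injective i := by
      intro s s' hss
      apply Subtype.ext
      apply Subtype.ext
      rw [hi s, hi s', hss]
    have h4 := Nat.card_le_card_of_injective i h3
    rw [Nat.card_eq_fintype_card (α := Fin 4), Fintype.card_fin] at h4
    omega
  · have h3 : Nat.card (P ⊓ F : Subgroup G) ≤ 32 := by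
      refine h.card_S_le ?_ hv hv4 hwL hw4 hvF hwF
      intro x hx
      exact congrArg Subtype.val (h2 ⟨x, hx.2⟩ ((hmem _).2 hx))
    have h4 : Nat.card S' = Nat.card (P ⊓ F : Subgroup G) := by
      have h5 : Nat.card (S' : Subgroup F) = Nat.card ((P ⊓ F).subgroupOf F) := by rw [hS']
      rw [Nat.card_congr (subgroupOfEquivOfLe (inf_le_right : P ⊓ F ≤ F)).toEquiv] at h5
      exact h5
    omega

/-! ### `v ∉ F` -/

theorem symm : SE Om U F L K M P where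
  e := h.e
  f := h.f
  no := h.no
  one := h.one
  zF := h.zF
  inv := h.inv
  conj := h.conj
  bs := h.bs
  KL := h.KL.symm
  KM := h.LM
  LM := h.KM
  zM := by rw [h.zM, h.KL.comm]
  syl := h.syl
  UK := h.UL
  UL := h.UK

/-- elements of `K ⊓ F` commute with `zz L` -/
theorem comm_of_inf (hr : r ∈ K) (hrF : r ∈ F) : r * zz L = zz L * r := by
  haveI : Fact (Nat.Prime 2) := ⟨Nat.prime_two⟩
  have h1 : zpowers (zz L) ≤ normalizer (K : Set G) := by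
    rw [zpowers_le]
    exact h.e.norm h.KL.mK h.KL.comm.symm
  have h2 : IsPGroup 2 (zpowers (zz L) ⊔ K : Subgroup G) :=
    (isPGroup_zz h.e h.KL.mL).to_sup_of_normal_right' (h.e.cvw.two K h.KL.mK) h1
  have h3 : IsPGroup 2 ((zpowers (zz L) ⊔ K) ⊓ F : Subgroup G) := h2.to_le inf_le_left
  exact (inv_comm h.bs h3 inf_le_right ⟨mem_sup_left (mem_zpowers _), h.zF _ h.KL.mL⟩
    (h.e.cvw.hyp.zz_mul h.KL.mL) ⟨mem_sup_right hr, hrF⟩).symm

theorem exists_A : ∃ A, IsA Om U A ∧ U K ≤ A ∧ U L ≤ A := by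
  haveI : Fact (Nat.Prime 2) := ⟨Nat.prime_two⟩
  have h1 : ¬ 2 ∣ P.index := by
    have := h.syl.2.2
    rwa [relIndex_top_right] at this
  exact ⟨WW Om U P, ⟨h.syl.2.1.toSylow h1, rfl⟩, U_le_WW h.e h.KL.mK h.UK, U_le_WW h.e h.KL.mL h.UL⟩

theorem exists_y : ∃ y ∈ K, y * zz L ≠ zz L * y := h.e.moves L K h.KL.symm

/-- elements of `K` commuting with `zz L` -/
theorem mem_XX (hk : r ∈ K) (hc : r * zz L = zz L * r) : r ∈ Tau.XX U K := by
  obtain ⟨y, hy, hyL⟩ := h.exists_y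
  obtain ⟨v, hv, hv4⟩ := h.e.cvw.exists_v h.KL.mK
  obtain ⟨A, hA, hKA, hLA⟩ := h.exists_A
  have hzA := zz_mem_of_U h.e h.KL.mL hLA
  have hcom : ∀ x ∈ Tau.XX U K, x * zz L = zz L * x := fun x hx => h.e.cvw.XX_comm hA h.KL.mK hv hv4 (hKA hv) hx hzA
  have hyX : y ∉ Tau.XX U K := fun hh => hyL (hcom y hh)
  by_contra hrX
  have h1 := h.e.cvw.y_inv h.KL.mK hy hyX hv
  have h2 := h.e.cvw.y_inv h.KL.mK hk hrX hv
  have h3 : y⁻¹ * r ∈ Tau.XX U K := by
    rw [h.e.cvw.mem_XX_iff h.KL.mK hv hv4 (K.mul_mem (K.inv_mem hy) hk)]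
    have h4 : y⁻¹ * v⁻¹ * y = v := by rw [← h1]; group
    have h5 : (y⁻¹ * r) * v * (y⁻¹ * r)⁻¹ = v := by
      calc (y⁻¹ * r) * v * (y⁻¹ * r)⁻¹ = y⁻¹ * (r * v * r⁻¹) * y := by group
        _ = v := by rw [h2, h4]
    rwa [mul_inv_eq_iff_eq_mul] at h5
  have h4 := hcom _ h3
  apply hyL
  have h5 : y = r * (y⁻¹ * r)⁻¹ := by group
  have h6 : Commute r (zz L) := hc
  have h7 : Commute (y⁻¹ * r) (zz L) := h4
  have h8 : Commute y (zz L) := by
    rw [h5]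
    exact h6.mul_left h7.inv_left
  exact h8

theorem inf_F (hr : r ∈ K) (hrF : r ∈ F) : r = 1 ∨ r = zz K := by
  by_contra hcon
  push Not at hcon
  have hKO := h.KL.mK
  have hrr : r * r ≠ 1 := fun hh => hcon.2 (h.e.cvw.hyp.eq_zz hKO hr hh hcon.1)
  obtain ⟨m, hm, hm1⟩ := exists_inv_pow (h.e.cvw.two K hKO) (K.mul_mem hr hr) hrr
  have h1 := h.e.cvw.hyp.eq_zz hKO (K.pow_mem (K.mul_mem hr hr) m) hm hm1
  rw [(Commute.refl r).mul_pow] at h1
  have hrK := K.pow_mem hr m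
  have hrFm := F.pow_mem hrF m
  have h2 := h.mem_XX hrK (h.comm_of_inf hrK hrFm)
  have h3 : orderOf (r ^ m) = 4 := GQ.orderOf_of_sq h1 (h.e.cvw.hyp.zz_mul hKO) (h.e.cvw.hyp.zz_ne hKO)
  have h4 : r ^ m ∈ U K := h.e.cvw.mem_U_of_pow_four hKO h2 (by rw [← h3, pow_orderOf_eq_one])
  exact h.not_mem_F h4 h3 hrFm

/-- the square of an element of `S` centralises `K` -/
theorem sq_comm (hs : s ∈ P ⊓ F) (hy : y ∈ K) : s * s * y = y * (s * s) := by
  haveI := h.f.nor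
  have hsK := h.e.norm h.KL.mK (h.comm_z1 hs)
  obtain ⟨c, hc⟩ : ∃ c, c = s * y * s⁻¹ * y⁻¹ := ⟨_, rfl⟩
  have hcK : c ∈ K := by
    rw [hc]
    exact K.mul_mem ((mem_normalizer_iff.1 hsK y).1 hy) (K.inv_mem hy)
  have hcF : c ∈ F := by
    rw [hc]
    have h1 : s * y * s⁻¹ * y⁻¹ = s * (y * s⁻¹ * y⁻¹) := by group
    rw [h1]
    exact F.mul_mem hs.2 (h.f.nor.conj_mem _ (F.inv_mem hs.2) y)
  have h1 : c * c = 1 ∧ s * c = c * s := by
    rcases h.inf_F hcK hcF with h2 | h2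
    · rw [h2]; exact ⟨by rw [one_mul], by rw [one_mul, mul_one]⟩
    · rw [h2]; exact ⟨h.e.cvw.hyp.zz_mul h.KL.mK, h.comm_z1 hs⟩
  have h2 : s * y * s⁻¹ = c * y := by rw [hc]; group
  have h3 : s * s * y * (s * s)⁻¹ = y := by
    calc s * s * y * (s * s)⁻¹ = s * (s * y * s⁻¹) * s⁻¹ := by group
      _ = (s * c) * y * s⁻¹ := by rw [h2]; group
      _ = c * (s * y * s⁻¹) := by rw [h1.2]; group
      _ = y := by rw [h2, ← mul_assoc, h1.1, one_mul]
  rwa [mul_inv_eq_iff_eq_mul] at h3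

theorem sq_one (hs : s ∈ P ⊓ F) : s * s = 1 := by
  by_contra hne
  obtain ⟨m, hm, hm1⟩ := exists_inv_pow h.two_S (mul_mem hs hs) hne
  have hK : ∀ y ∈ K, (s * s) ^ m * y = y * (s * s) ^ m := fun y hy =>
    (Commute.pow_left (show Commute (s * s) y from h.sq_comm hs hy) m)
  have hL : ∀ y ∈ L, (s * s) ^ m * y = y * (s * s) ^ m := fun y hy =>
    (Commute.pow_left (show Commute (s * s) y from h.symm.sq_comm hs hy) m)
  obtain ⟨y, hy, hyL⟩ := h.exists_y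
  obtain ⟨x, hx, hxK⟩ := h.symm.exists_y
  rcases h.inv_S (pow_mem (mul_mem hs hs) m) hm hm1 with h1 | h1 | h1
  · have h2 := hL x hx
    rw [h1] at h2
    exact hxK h2.symm
  · have h2 := hK y hy
    rw [h1] at h2
    exact hyL h2.symm
  · have h2 := hK y hy
    rw [h1, h.zM] at h2
    have h3 : Commute (zz K) y := (h.e.cvw.hyp.comm_zz h.KL.mK (le_normalizer hy)).symm
    have h4 : Commute (zz K * zz L) y := h2
    have h5 : Commute (zz L) y := by
      have h6 : zz L = (zz K)⁻¹ * (zz K * zz L) := by group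
      rw [h6]
      exact h3.inv_left.mul_left h4
    exact hyL h5.symm

theorem comm_v (hs : s ∈ P ⊓ F) (hv : v ∈ U K) (hv4 : orderOf v = 4) : Commute s v := by
  obtain ⟨w, hw, hw4⟩ := h.e.cvw.exists_v h.KL.mL
  have h1 : Commute v (zz K) := by
    rw [← h.e.cvw.sq_eq h.KL.mK hv hv4]
    exact (Commute.refl v).mul_right (Commute.refl v)
  have h2 : Commute v (zz L) := by
    rw [← h.e.cvw.sq_eq h.KL.mL hw hw4]
    have h3 : Commute v w := h.vw_comm hv hw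
    exact h3.mul_right h3
  by_cases hs1 : s = 1
  · rw [hs1]; exact Commute.one_left v
  rcases h.inv_S hs (h.sq_one hs) hs1 with h3 | h3 | h3
  · rw [h3]; exact h1.symm
  · rw [h3]; exact h2.symm
  · rw [h3, h.zM]; exact (h1.mul_right h2).symm

/-- **the contradiction** -/
theorem false : False := by
  haveI := h.f.nor
  have hKO := h.KL.mK
  have hLO := h.KL.mL
  obtain ⟨v, hv, hv4⟩ := h.e.cvw.exists_v hKO
  have hvv := h.e.cvw.sq_eq hKO hv hv4
  obtain ⟨S, hSd⟩ : ∃ S, S = P ⊓ F := ⟨_, rfl⟩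
  have hS : Syl S F := by rw [hSd]; exact h.syl_S
  have hS2 : IsPGroup 2 S := hS.2.1
  have hz1 : zz K ∈ S := by rw [hSd]; exact h.z1S
  have hz2 : zz L ∈ S := by rw [hSd]; exact h.z2S
  have hSv : ∀ s ∈ S, Commute s v := fun s hs => h.comm_v (by rw [hSd] at hs; exact hs) hv hv4
  have hS1 : ∀ s ∈ S, s * zz K = zz K * s := fun s hs => h.comm_z1 (by rw [hSd] at hs; exact hs)
  have hSL : ∀ s ∈ S, s * zz L = zz L * s := fun s hs => h.comm_z2 (by rw [hSd] at hs; exact hs)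
  have hss : ∀ s ∈ S, s * s = 1 := fun s hs => h.sq_one (by rw [hSd] at hs; exact hs)
  -- an element of `F` normalising `S` and moving `zz K` to `zz L`
  obtain ⟨x, hxF, hxS, hxz⟩ : ∃ x ∈ F, cj x S = S ∧ x * zz K * x⁻¹ = zz L := by
    obtain ⟨g, hg, hgz⟩ := h.conj K hKO L hLO
    have h1 : Syl (cj g S) F := by
      have := hS.cj g
      rwa [cj_F h.f] at this
    obtain ⟨C, hC⟩ : ∃ C, C = F ⊓ centralizer {zz L} := ⟨_, rfl⟩
    have hCF : C ≤ F := by rw [hC]; exact inf_le_left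
    have h2 : S ≤ C := by
      rw [hC]
      exact le_inf hS.1 fun s hs => mem_centralizer_singleton_iff.2 (hSL s hs)
    have h3 : cj g S ≤ C := by
      rw [hC]
      refine le_inf h1.1 ?_
      rintro _ ⟨s, hs, rfl⟩
      rw [mem_centralizer_singleton_iff]
      change g * s * g⁻¹ * zz L = zz L * (g * s * g⁻¹)
      rw [← hgz]
      calc g * s * g⁻¹ * (g * zz K * g⁻¹) = g * (s * zz K) * g⁻¹ := by group
        _ = g * (zz K * s) * g⁻¹ := by rw [hS1 s hs]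
        _ = _ := by group
    obtain ⟨c, hc, hcS⟩ := (LB.syl_of_le h1 h3 hCF).exists_conj (LB.syl_of_le hS h2 hCF)
    rw [hC] at hc
    refine ⟨c * g, F.mul_mem hc.1 hg, by rw [cj_mul, hcS], ?_⟩
    have h4 := mem_centralizer_singleton_iff.1 hc.2
    calc c * g * zz K * (c * g)⁻¹ = c * (g * zz K * g⁻¹) * c⁻¹ := by group
      _ = zz L := by rw [hgz, h4, mul_inv_cancel_right]
  obtain ⟨u, hu⟩ : ∃ u, u = x * v * x⁻¹ := ⟨_, rfl⟩
  have huu : u * u = zz L := by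
    rw [hu, ← hxz, ← hvv]; group
  obtain ⟨E, hE⟩ : ∃ E, E = F ⊔ zpowers v := ⟨_, rfl⟩
  have hFE : F ≤ E := by rw [hE]; exact le_sup_left
  have hvE : v ∈ E := by rw [hE]; exact mem_sup_right (mem_zpowers v)
  obtain ⟨D, hD⟩ : ∃ D, D = E ⊓ centralizer (S : Set G) := ⟨_, rfl⟩
  have hvD : v ∈ D := by
    rw [hD]
    exact ⟨hvE, mem_centralizer_iff.2 fun s hs => hSv s hs⟩
  have hSD : S ≤ D := by
    rw [hD]
    refine le_inf (hS.1.trans hFE) fun s hs => mem_centralizer_iff.2 fun t ht => ?_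
    exact inv_comm h.bs hS2 hS.1 ht (hss t ht) hs
  have huD : u ∈ D := by
    rw [hD]
    refine ⟨?_, mem_centralizer_iff.2 fun s hs => ?_⟩
    · rw [hu]
      exact E.mul_mem (E.mul_mem (hFE hxF) hvE) (E.inv_mem (hFE hxF))
    · have hs' : s ∈ cj x S := by rw [hxS]; exact hs
      obtain ⟨t, ht, rfl⟩ := hs'
      change x * t * x⁻¹ * u = u * (x * t * x⁻¹)
      rw [hu]
      have h1 := (hSv t ht).eq
      calc x * t * x⁻¹ * (x * v * x⁻¹) = x * (t * v) * x⁻¹ := by group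
        _ = x * (v * t) * x⁻¹ := by rw [h1]
        _ = _ := by group
  have hzv : IsPGroup 2 (zpowers v) := h.syl.2.1.to_le (zpowers_le.2 (h.UK hv))
  have hzu : IsPGroup 2 (zpowers u) := by
    have h1 : u ∈ cj x P := by rw [hu]; exact conj_mem_cj (h.UK hv)
    exact (isPGroup_cj h.syl.2.1).to_le (zpowers_le.2 h1)
  haveI : Fact (Nat.Prime 2) := ⟨Nat.prime_two⟩
  obtain ⟨P₀, hP₀⟩ : ∃ P₀, P₀ = S ⊔ zpowers v := ⟨_, rfl⟩
  have hP₀P : P₀ ≤ P := by
    rw [hP₀, hSd]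
    exact sup_le inf_le_left (zpowers_le.2 (h.UK hv))
  have hP₀2 : IsPGroup 2 P₀ := h.syl.2.1.to_le hP₀P
  have hP₀D : P₀ ≤ D := by rw [hP₀]; exact sup_le hSD (zpowers_le.2 hvD)
  obtain ⟨T1, hT1, hl1⟩ := LB.exists_syl_ge hP₀2 hP₀D
  obtain ⟨T2, hT2, hl2⟩ := LB.exists_syl_ge hzu (zpowers_le.2 huD)
  have hvn : zpowers v ≤ normalizer (F : Set G) := by rw [normalizer_eq_top]; exact le_top
  have hvT1 : v ∈ T1 := hl1 (by rw [hP₀]; exact mem_sup_right (mem_zpowers v))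
  have hT1P : T1 ≤ P₀ := by
    intro p hp
    have hpE : p ∈ E := by have := hT1.1 hp; rw [hD] at this; exact this.1
    rw [hE] at hpE
    obtain ⟨a, ha, q, hq, rfl⟩ := LB.exists_mul_of_mem_sup hvn hpE
    have hqT : q ∈ T1 := (zpowers_le.2 hvT1) hq
    have haT : a ∈ T1 := by
      have h1 := T1.mul_mem hp (T1.inv_mem hqT)
      rwa [mul_inv_cancel_right] at h1
    have h2 : S = T1 ⊓ F := by
      refine LB.syl_eq_of_le hS (hT1.2.1.to_le inf_le_left) inf_le_right (le_inf ?_ hS.1)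
      exact le_trans (by rw [hP₀]; exact le_sup_left) hl1
    rw [hP₀]
    refine mul_mem (mem_sup_left ?_) (mem_sup_right hq)
    rw [h2]
    exact ⟨haT, ha⟩
  obtain ⟨d, hd, hdT⟩ := hT2.exists_conj hT1
  have hdu : d * u * d⁻¹ ∈ P₀ := by
    apply hT1P
    rw [← hdT]
    exact conj_mem_cj (hl2 (mem_zpowers u))
  have hdz : d * zz L = zz L * d := by
    rw [hD] at hd
    exact (mem_centralizer_iff.1 hd.2 _ hz2).symm
  have h1 : (d * u * d⁻¹) * (d * u * d⁻¹) = zz L := by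
    calc (d * u * d⁻¹) * (d * u * d⁻¹) = d * (u * u) * d⁻¹ := by group
      _ = zz L := by rw [huu, hdz, mul_inv_cancel_right]
  rw [hP₀] at hdu
  have hvS : zpowers v ≤ normalizer (S : Set G) := by
    rw [zpowers_le, mem_normalizer_iff_cj]
    ext y
    constructor
    · rintro ⟨s, hs, rfl⟩
      change v * s * v⁻¹ ∈ S
      rw [← (hSv s hs).eq, mul_inv_cancel_right]
      exact hs
    · intro hy
      refine ⟨y, hy, ?_⟩
      change v * y * v⁻¹ = y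
      rw [← (hSv y hy).eq, mul_inv_cancel_right]
  obtain ⟨s, hs, q, hq, hsq⟩ := LB.exists_mul_of_mem_sup hvS hdu
  obtain ⟨i, rfl⟩ := mem_zpowers_iff.1 hq
  rw [hsq] at h1
  have h2 : Commute s (v ^ i) := (hSv s hs).zpow_right i
  have h3 : zz L = zz K ^ i := by
    rw [← h1, ← hvv]
    calc s * v ^ i * (s * v ^ i) = s * (v ^ i * s) * v ^ i := by group
      _ = (s * s) * (v ^ i * v ^ i) := by rw [← h2.eq]; group
      _ = (v * v) ^ i := by rw [hss s hs, one_mul, (Commute.refl v).mul_zpow]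
  obtain ⟨y, hy, hyL⟩ := h.exists_y
  apply hyL
  rw [h3]
  have h4 : Commute y (zz K) := h.e.cvw.hyp.comm_zz hKO (le_normalizer hy)
  exact (h4.zpow_right i).eq

end SE

/-- **`F` has no strongly embedded subgroup** -/
theorem no_se (e : Elem Om U) (f : FSimp F) (hO : pPrimeCore 2 G = ⊥) (hev : EvQ G)
    (no : ∀ K ∈ Om, ∀ L ∈ Om, ¬ Orth K L) (one : ∀ K ∈ Om, ∀ L ∈ Om, ∃ g, L = cj g K)
    (hne : Om.Nonempty) (hb : ∀ H : Subgroup F, IsStronglyEmbedded H → BSyl F) (H : Subgroup F) : ¬ IsStronglyEmbedded H := by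
  intro hH
  haveI : Fact (Nat.Prime 2) := ⟨Nat.prime_two⟩
  have hyp := e.cvw.hyp
  have zF : ∀ K ∈ Om, zz K ∈ F := fun K hK => zz_mem e f hO hev no one hK
  obtain ⟨K, hK⟩ := hne
  obtain ⟨x, hx, hl⟩ := exists_lkd e f hO hev no hK
  obtain ⟨M, hKM, hLM, hzM, -, hUM⟩ := e.third _ _ hl
  obtain ⟨L, hLd⟩ : ∃ L, L = cj x K := ⟨_, rfl⟩
  rw [← hLd] at hl hLM hzM hUM
  -- all involutions are conjugate
  have hconj : ∀ s ∈ F, ∀ t ∈ F, s * s = 1 → s ≠ 1 → t * t = 1 → t ≠ 1 → ∃ g ∈ F, g * s * g⁻¹ = t := by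
    intro s hs t ht hss hs1 htt ht1
    have h1 : orderOf (⟨s, hs⟩ : F) = 2 := by
      rw [orderOf_eq_prime_iff, pow_two]
      exact ⟨Subtype.ext hss, fun hh => hs1 (congrArg Subtype.val hh)⟩
    have h2 : orderOf (⟨t, ht⟩ : F) = 2 := by
      rw [orderOf_eq_prime_iff, pow_two]
      exact ⟨Subtype.ext htt, fun hh => ht1 (congrArg Subtype.val hh)⟩
    obtain ⟨g, hg⟩ := isConj_iff.1 (TwoFusion.StronglyEmbeddedBasic.isConj_of_involutions hH _ _ h1 h2)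
    exact ⟨g, g.2, congrArg Subtype.val hg⟩
  have hcV : ∀ v ∈ U K, ∀ w ∈ U L, v * w = w * v := e.commV K hK L hl.mL hl.comm
  have h2 : IsPGroup 2 (U K ⊔ U L : Subgroup G) := by
    refine ((e.cvw.two K hK).to_le (e.cvw.vch.le K hK)).to_sup_of_normal_right'
      ((e.cvw.two L hl.mL).to_le (e.cvw.vch.le L hl.mL)) ?_
    intro v hv
    rw [mem_normalizer_iff]
    intro y
    constructor
    · intro hy
      rw [hcV v hv y hy, mul_inv_cancel_right]
      exact hy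
    · intro hy
      have h3 := hcV v hv _ hy
      have h4 : v * (v * y * v⁻¹) = v * y := by rw [h3]; group
      have h5 := mul_left_cancel h4
      rwa [h5] at hy
  obtain ⟨P, hP⟩ := h2.exists_le_sylow
  exact SE.false (K := K) (L := L) (M := M) (P := (P : Subgroup G))
    { e := e
      f := f
      no := no
      one := one
      zF := zF
      inv := fun t ht htt ht1 => by
        obtain ⟨g, hg, hgt⟩ := hconj (zz K) (zF K hK) t ht (hyp.zz_mul hK) (hyp.zz_ne hK) htt ht1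
        exact ⟨cj g K, hyp.conj K hK g, by rw [hyp.zz_cj hK, hgt]⟩
      conj := fun K hK L hL => hconj _ (zF K hK) _ (zF L hL) (hyp.zz_mul hK) (hyp.zz_ne hK) (hyp.zz_mul hL) (hyp.zz_ne hL)
      bs := hb H hH
      KL := hl
      KM := hKM
      LM := hLM
      zM := hzM
      syl := syl_top_of_sylow P
      UK := le_sup_left.trans hP
      UL := le_sup_right.trans hP }

/-- **CONN0** modulo the list facts -/
theorem conn0_of {F : Subgroup G} (e : Elem Om U) (one : ∀ K ∈ Om, ∀ L ∈ Om, ∃ g, L = cj g K) (hne : Om.Nonempty)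
    (f : FSimp F) (hO : pPrimeCore 2 G = ⊥) (hev : EvQ G) (no : ∀ K ∈ Om, ∀ L ∈ Om, ¬ Orth K L)
    (hc : CloEnd.Crit1175 F) (hb : ∀ H : Subgroup F, IsStronglyEmbedded H → BSyl F) :
    ∀ K ∈ Om, ∀ L ∈ Om, Cl Om K L := by
  intro K hK L hL
  exact conn_of e f no one (fun K hK => zz_mem e f hO hev no one hK) (no_se e f hO hev no one hne hb) hc hK hL

end Cfsg.Agent.Cit.Nil.CVA2
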