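import Cfsg.Agent.Cit.Nil.CVA2.BenSyl
import Cfsg.Agent.Cit.Nil.CVA2.Conn0B

/-!
# (6b)(CV), components of type `A2`: CONN0

`conn0` : in a world with a simple normal subgroup with trivial centraliser and without orthogonal members all members are
in one class. `conn0_all` : the same with `Crit1175` and `Bend` for all simple groups.
-/

set_option autoImplicit false
set_option linter.style.haveILetI false
set_option linter.unusedSectionVars false

namespace Cfsg.Agent.Cit.Nil.CVA2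

open Subgroup Cfsg Cit Tau CV CV1 CVT Cfsg.Agent.Cit.Comp
open Cfsg.Agent.Cit.Nil.ROne (FSimp)

/-- **CONN0** -/
theorem conn0_cl {G : Type*} [Group G] [Finite G] {Om : Set (Subgroup G)} {U : Subgroup G → Subgroup G} {F : Subgroup G}
    (e : Elem Om U) (one : ∀ K ∈ Om, ∀ L ∈ Om, ∃ g, L = cj g K) (hne : Om.Nonempty) (f : FSimp F)
    (hO : pPrimeCore 2 G = ⊥) (hev : EvQ G) (no : ∀ K ∈ Om, ∀ L ∈ Om, ¬ Orth K L) (hc : CloEnd.Crit1175 F)
    (hB : CloEnd.Bend F) : ∀ K ∈ Om, ∀ L ∈ Om, Cl Om K L :=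
  conn0_of e one hne f hO hev no hc fun H hH => ben_syl (hB H hH)

/-- **CONN0** for a relation -/
theorem conn0 {G : Type*} [Group G] [Finite G] {Om : Set (Subgroup G)} {U : Subgroup G → Subgroup G} {F : Subgroup G}
    (e : Elem Om U) (one : ∀ K ∈ Om, ∀ L ∈ Om, ∃ g, L = cj g K) (hne : Om.Nonempty) (f : FSimp F)
    (hO : pPrimeCore 2 G = ⊥) (hev : EvQ G) (no : ∀ K ∈ Om, ∀ L ∈ Om, ¬ Orth K L) (hc : CloEnd.Crit1175 F)
    (hB : CloEnd.Bend F) {r : Subgroup G → Subgroup G → Prop} (_rs : ∀ K L, r K L → r L K)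
    (rt : ∀ K L M, r K L → r L M → r K M) (rr : ∀ K ∈ Om, r K K) (_rc : ∀ g K L, r K L → r (cj g K) (cj g L))
    (rl : ∀ K L, Lkd Om K L → r K L) : ∀ K ∈ Om, ∀ L ∈ Om, r K L := by
  intro K hK L hL
  have h1 := conn0_cl e one hne f hO hev no hc hB K hK L hL
  induction h1 with
  | refl => exact rr K hK
  | tail _ h3 ih => exact rt _ _ _ (ih h3.mK) (rl _ _ h3)

end Cfsg.Agent.Cit.Nil.CVA2
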