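import Cfsg.Agent.Cit.Nil.CVA2.Defs
import Cfsg.Agent.Cit.Nil.CVT.Comp
import Cfsg.Agent.Cit.CloEnd
import Cfsg.Agent.Cit.CoreTools

/-!
# (6b)(CV), components of type `A2`: CONN0, part A

`F` is a simple normal subgroup with trivial centraliser; one class of members, no orthogonal members.

* `zz_mem` : `zz K ∈ F`; `exists_lkd` : `K` is linked to a conjugate under `F`;
* `exists_syl` : `zz K` is central in a Sylow 2-subgroup of `F`;
* `conn_of` : the class relation has one class if `F` has no strongly embedded subgroup.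
-/

set_option autoImplicit false
set_option linter.style.haveILetI false
set_option linter.unusedSectionVars false

namespace Cfsg.Agent.Cit.Nil.CVA2

open Subgroup Cfsg Cit Tau CV CV1 CVT Cfsg.Agent.Cit.Comp
open Cfsg.Agent.Cit.Nil.ROne (FSimp)
open scoped commutatorElement

variable {G : Type*} [Group G] [Finite G] {Om : Set (Subgroup G)} {U : Subgroup G → Subgroup G}
  {A F K L M N P T X : Subgroup G} {a b g s t u v w x y z : G}

/-! ### The simple normal subgroup -/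

theorem fs_pCore (f : FSimp F) : pCore 2 G = ⊥ := by
  haveI : Fact (Nat.Prime 2) := ⟨Nat.prime_two⟩
  by_contra hb
  have h1 : F ≤ pCore 2 G := f.le (fun g _ n hn => (Lib.Cores.pCore_normal 2 (G := G)).conj_mem n hn g) hb
  have h2 : IsPGroup 2 F := (Lib.Cores.pCore_isPGroup 2).to_le h1
  haveI := f.sim
  haveI : Nontrivial F := IsSimpleGroup.toNontrivial
  have h3 : center F ≠ ⊥ := by
    have := h2.center_nontrivial
    exact (nontrivial_iff_ne_bot _).1 this
  have h4 : center F = ⊤ := (inferInstance : (center F).Normal).eq_bot_or_eq_top.resolve_left h3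
  refine f.na fun x hx y hy => ?_
  have h5 : (⟨x, hx⟩ : F) ∈ center F := by rw [h4]; exact mem_top _
  have h6 := mem_center_iff.1 h5 ⟨y, hy⟩
  exact (congrArg Subtype.val h6).symm

theorem fs_center (f : FSimp F) : center F = ⊥ := by
  haveI := f.sim
  rcases (inferInstance : (center F).Normal).eq_bot_or_eq_top with h | h
  · exact h
  · exfalso
    refine f.na fun x hx y hy => ?_
    have h5 : (⟨x, hx⟩ : F) ∈ center F := by rw [h]; exact mem_top _
    have h6 := mem_center_iff.1 h5 ⟨y, hy⟩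
    exact (congrArg Subtype.val h6).symm

theorem fs_perfect (f : FSimp F) : commutator F = ⊤ := by
  haveI := f.sim
  rcases (inferInstance : (commutator F).Normal).eq_bot_or_eq_top with h | h
  · exfalso
    refine f.na fun x hx y hy => ?_
    have h1 : ⁅(⟨x, hx⟩ : F), (⟨y, hy⟩ : F)⁆ ∈ commutator F := by
      rw [_root_.commutator_def]
      exact commutator_mem_commutator (mem_top _) (mem_top _)
    rw [h, mem_bot, commutatorElement_eq_one_iff_mul_comm] at h1
    exact congrArg Subtype.val h1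
  · exact h

theorem fs_quasi (f : FSimp F) : IsQuasisimple F := by
  haveI := f.sim
  refine ⟨⟨fs_perfect f⟩, ?_⟩
  have e : F ⧸ center F ≃* F := (QuotientGroup.quotientMulEquivOfEq (fs_center f)).trans QuotientGroup.quotientBot
  haveI : Nontrivial (F ⧸ center F) := e.toEquiv.nontrivial
  exact IsSimpleGroup.isSimpleGroup_of_surjective e.symm.toMonoidHom e.symm.surjective

theorem fs_comp (f : FSimp F) : IsComponent F := ⟨f.nor.isSubnormal, fs_quasi f⟩

theorem fs_not_cent (f : FSimp F) (hz : z ≠ 1) : ¬ F ≤ centralizer {z} := by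
  intro h
  apply hz
  have h1 : z ∈ centralizer (F : Set G) := by
    rw [mem_centralizer_iff]
    exact fun x hx => mem_centralizer_singleton_iff.1 (h hx)
  rwa [f.cen, mem_bot] at h1

/-! ### `zz K ∈ F` -/

section world

variable (e : Elem Om U) (f : FSimp F) (hO : pPrimeCore 2 G = ⊥) (hev : EvQ G)
  (no : ∀ K ∈ Om, ∀ L ∈ Om, ¬ Orth K L) (one : ∀ K ∈ Om, ∀ L ∈ Om, ∃ g, L = cj g K)

include e no in
theorem lkd_of (hK : K ∈ Om) (hL : L ∈ Om) (hne : K ≠ L) (hc : zz K * zz L = zz L * zz K) : Lkd Om K L :=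
  ⟨hK, hL, hne, hc, no K hK L hL⟩

include e f hO hev no

theorem exists_lkd (hK : K ∈ Om) : ∃ x ∈ F, Lkd Om K (cj x K) := by
  obtain ⟨x, hx, h1, h2⟩ := CVT.exists_conj hO (fs_pCore f) hev e.cvw hK (fs_comp f)
    (fs_not_cent f (e.cvw.hyp.zz_ne hK))
  have h3 := e.cvw.hyp.conj K hK x
  refine ⟨x, hx, lkd_of e no hK h3 ?_ ?_⟩
  · intro hh
    apply h2
    rw [← e.cvw.hyp.zz_cj hK, ← hh]
  · rw [e.cvw.hyp.zz_cj hK]
    exact h1

include one in
theorem zz_mem (hK : K ∈ Om) : zz K ∈ F := by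
  haveI := f.nor
  obtain ⟨x, hx, hl⟩ := exists_lkd e f hO hev no hK
  obtain ⟨M, hKM, -, hz, -⟩ := e.third _ _ hl
  have h1 : zz M ∈ F := by
    rw [hz, e.cvw.hyp.zz_cj hK]
    have h2 : zz K * (x * zz K * x⁻¹) = (zz K * x * (zz K)⁻¹) * x⁻¹ := by
      rw [e.cvw.hyp.zz_inv hK]; group
    rw [h2]
    exact F.mul_mem (f.nor.conj_mem x hx _) (F.inv_mem hx)
  obtain ⟨g, rfl⟩ := one M hKM.mL K hK
  rw [e.cvw.hyp.zz_cj hKM.mL]
  exact f.nor.conj_mem _ h1 g

end world

/-! ### A 2-group acting on an odd set -/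

theorem exists_fixed (hP : IsPGroup 2 P) {D : Set (Subgroup G)} (hD : ∀ g ∈ P, ∀ L ∈ D, cj g L ∈ D)
    (hodd : ¬ 2 ∣ Nat.card D) : ∃ L ∈ D, ∀ g ∈ P, cj g L = L := by
  haveI : Fact (Nat.Prime 2) := ⟨Nat.prime_two⟩
  let act : MulAction P D :=
    { smul := fun g L => ⟨cj (g : G) L, hD g g.2 L L.2⟩
      one_smul := fun L => Subtype.ext (cj_one _)
      mul_smul := fun g h L => Subtype.ext (by
        change cj ((g : G) * h) (L : Subgroup G) = cj (g : G) (cj (h : G) L)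
        rw [cj_mul]) }
  letI := act
  haveI : Finite D := Set.toFinite D
  obtain ⟨L, hL⟩ := hP.nonempty_fixed_point_of_prime_not_dvd_card D hodd
  exact ⟨L, L.2, fun g hg => congrArg Subtype.val (hL ⟨g, hg⟩)⟩

section world

variable (e : Elem Om U) (no : ∀ K ∈ Om, ∀ L ∈ Om, ¬ Orth K L)

include e no

/-- the Sylow group fixes one of the members of the component -/
theorem exists_fix (S : Sylow 2 G) (hK : K ∈ Om) (hKA : U K ≤ WW Om U (S : Subgroup G)) :
    ∃ L ∈ Om, U L ≤ WW Om U (S : Subgroup G) ∧ ∀ g ∈ (S : Subgroup G), g * zz L = zz L * g := by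
  classical
  obtain ⟨A, hAd⟩ : ∃ A, A = WW Om U (S : Subgroup G) := ⟨_, rfl⟩
  have hA : IsA Om U A := ⟨S, hAd⟩
  rw [← hAd] at hKA ⊢
  have hSA : (S : Subgroup G) ≤ normalizer (A : Set G) := by
    rw [hAd]
    exact le_normalizer.trans (e.cvw.sylow_norm S)
  obtain ⟨D, hDd⟩ : ∃ D : Set (Subgroup G), D = {L | L ∈ Om ∧ U L ≤ A} := ⟨_, rfl⟩
  have hKD : K ∈ D := by rw [hDd]; exact ⟨hK, hKA⟩
  have hD : ∀ g ∈ (S : Subgroup G), ∀ L ∈ D, cj g L ∈ D := by
    intro g hg L hL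
    rw [hDd] at hL ⊢
    refine ⟨e.cvw.hyp.conj L hL.1 g, ?_⟩
    rw [e.cvw.vch.cj L hL.1]
    have h1 := cj_mono g hL.2
    rwa [mem_normalizer_iff_cj.1 (hSA hg)] at h1
  have hzA : ∀ L ∈ D, zz L ∈ A := by
    intro L hL
    rw [hDd] at hL
    obtain ⟨v, hv, hv4⟩ := e.cvw.exists_v hL.1
    rw [← e.cvw.sq_eq hL.1 hv hv4]
    exact A.mul_mem (hL.2 hv) (hL.2 hv)
  have hlk : ∀ L ∈ D, ∀ M ∈ D, L ≠ M → Lkd Om L M := by
    intro L hL M hM hne
    have h1 := hL
    have h2 := hM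
    rw [hDd] at h1 h2
    exact lkd_of e no h1.1 h2.1 hne (e.cvw.comm hA (hzA L hL) (hzA M hM))
  have hodd : ¬ 2 ∣ Nat.card D := by
    by_cases h1 : ∃ L ∈ D, L ≠ K
    · obtain ⟨L, hL, hne⟩ := h1
      have hKL := hlk K hKD L hL hne.symm
      obtain ⟨M, hKM, hLM, -, -, hUM⟩ := e.third _ _ hKL
      have hMD : M ∈ D := by
        rw [hDd] at hL ⊢
        exact ⟨hKM.mL, hUM.trans (sup_le hKA hL.2)⟩
      have h2 : D = {K, L, M} := by
        ext N
        simp only [Set.mem_insert_iff, Set.mem_singleton_iff]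
        constructor
        · intro hN
          by_contra hcon
          push Not at hcon
          exact e.four K L M N hKL hKM (hlk K hKD N hN (Ne.symm hcon.1)) hLM (hlk L hL N hN (Ne.symm hcon.2.1))
            (hlk M hMD N hN (Ne.symm hcon.2.2))
        · rintro (rfl | rfl | rfl)
          exacts [hKD, hL, hMD]
      have h3 : Nat.card D = 3 := by
        rw [h2, Nat.card_coe_set_eq, Set.ncard_eq_three]
        exact ⟨K, L, M, hKL.ne, hKM.ne, hLM.ne, rfl⟩
      rw [h3]; decide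
    · push Not at h1
      have h2 : D = {K} := by
        ext N
        rw [Set.mem_singleton_iff]
        exact ⟨fun hN => h1 N hN, fun hN => by rw [hN]; exact hKD⟩
      rw [h2, Nat.card_coe_set_eq, Set.ncard_singleton]
      decide
  obtain ⟨L, hL, hfix⟩ := exists_fixed S.isPGroup' hD hodd
  rw [hDd] at hL
  refine ⟨L, hL.1, hL.2, fun g hg => ?_⟩
  exact e.cvw.hyp.comm_zz hL.1 (mem_normalizer_iff_cj.2 (hfix g hg))

end world

theorem isPGroup_zz (e : Elem Om U) (hK : K ∈ Om) : IsPGroup 2 (zpowers (zz K)) :=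
  CloEnd.isPGroup_zpowers (e.cvw.hyp.zz_mul hK)

theorem U_le_WW (e : Elem Om U) (hK : K ∈ Om) (hT : U K ≤ T) : U K ≤ WW Om U T := by
  obtain ⟨v, hv, hv4⟩ := e.cvw.exists_v hK
  rw [e.cvw.U_eq hK hv hv4, zpowers_le]
  exact subset_closure ⟨hT hv, hv4, K, hK, hv⟩

theorem zz_mem_of_U (e : Elem Om U) (hK : K ∈ Om) (hT : U K ≤ T) : zz K ∈ T := by
  obtain ⟨v, hv, hv4⟩ := e.cvw.exists_v hK
  rw [← e.cvw.sq_eq hK hv hv4]
  exact T.mul_mem (hT hv) (hT hv)

theorem cj_F (f : FSimp F) (g : G) : cj g F = F := by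
  haveI := f.nor
  exact mem_normalizer_iff_cj.1 (by rw [normalizer_eq_top]; exact mem_top g)

theorem syl_F (f : FSimp F) {S : Subgroup G} (hS : Syl S ⊤) : Syl (S ⊓ F) F := by
  haveI := f.nor
  exact LB.syl_inf_normal hS le_top (by rw [normalizer_eq_top])

theorem syl_top_of_sylow (S : Sylow 2 G) : Syl (S : Subgroup G) ⊤ :=
  ⟨le_top, S.isPGroup', by rw [relIndex_top_right]; exact S.not_dvd_index⟩

section world

variable (e : Elem Om U) (f : FSimp F) (no : ∀ K ∈ Om, ∀ L ∈ Om, ¬ Orth K L)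
  (one : ∀ K ∈ Om, ∀ L ∈ Om, ∃ g, L = cj g K) (zF : ∀ K ∈ Om, zz K ∈ F)

include e f no one

/-- `zz K` is central in a Sylow 2-subgroup of `F` -/
theorem exists_syl (hK : K ∈ Om) : ∃ S : Sylow 2 F, (⟨zz K, zF K hK⟩ : F) ∈ S ∧
    ∀ s ∈ S, Commute s (⟨zz K, zF K hK⟩ : F) := by
  haveI : Fact (Nat.Prime 2) := ⟨Nat.prime_two⟩
  obtain ⟨P, hP⟩ := (e.cvw.two K hK).exists_le_sylow
  have hKA : U K ≤ WW Om U (P : Subgroup G) := U_le_WW e hK ((e.cvw.vch.le K hK).trans hP)
  obtain ⟨L, hL, hUL, hcen⟩ := exists_fix e no P hK hKA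
  obtain ⟨g, rfl⟩ := one L hL K hK
  have h1 : Syl (cj g ((P : Subgroup G) ⊓ F)) F := by
    have h2 := (syl_F f (syl_top_of_sylow P)).cj g
    rwa [cj_F f] at h2
  obtain ⟨S, hS⟩ := h1.exists_sylow
  refine ⟨S, ?_, fun s hs => ?_⟩
  · have h2 : (⟨zz (cj g L), zF _ hK⟩ : F) ∈ (S : Subgroup F) := by
      rw [hS, mem_subgroupOf]
      change zz (cj g L) ∈ _
      rw [e.cvw.hyp.zz_cj hL]
      exact conj_mem_cj ⟨zz_mem_of_U e hL (hUL.trans (WW_le _)), zF L hL⟩
    exact h2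
  · have h2 : s ∈ (S : Subgroup F) := hs
    rw [hS, mem_subgroupOf] at h2
    obtain ⟨p, hp, hps⟩ := h2
    have hps' : (s : G) = g * p * g⁻¹ := hps.symm
    apply Subtype.ext
    change (s : G) * zz (cj g L) = zz (cj g L) * s
    rw [hps', e.cvw.hyp.zz_cj hL]
    have h3 := hcen p hp.1
    calc g * p * g⁻¹ * (g * zz L * g⁻¹) = g * (p * zz L) * g⁻¹ := by group
      _ = g * (zz L * p) * g⁻¹ := by rw [h3]
      _ = g * zz L * g⁻¹ * (g * p * g⁻¹) := by group

include zF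

/-- `F` preserves the class of `K` -/
theorem cl_F (hse : ∀ H : Subgroup F, ¬ IsStronglyEmbedded H) (hc : CloEnd.Crit1175 F) (hK : K ∈ Om) (hg : g ∈ F) :
    Cl Om K (cj g K) := by
  have hyp := e.cvw.hyp
  obtain ⟨M, hM⟩ : ∃ M : Subgroup F, ∀ g : F, g ∈ M ↔ Cl Om K (cj (g : G) K) := by
    refine ⟨{ carrier := {g | Cl Om K (cj (g : G) K)}, mul_mem' := ?_, one_mem' := ?_, inv_mem' := ?_ }, fun g => Iff.rfl⟩
    · intro a b ha hb
      have h1 : Cl Om (cj (a : G) K) (cj (a : G) (cj (b : G) K)) := Cl.cj hyp hb a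
      rw [← cj_mul] at h1
      exact Cl.trans ha h1
    · change Cl Om K (cj (1 : G) K)
      rw [cj_one]
      exact Cl.refl K
    · intro a ha
      have h1 := Cl.cj hyp ha ((a : G)⁻¹)
      rw [cj_inv_cj] at h1
      exact h1.symm
  by_contra hcon
  have hMt : M ≠ ⊤ := by
    intro hh
    apply hcon
    exact (hM ⟨g, hg⟩).1 (by rw [hh]; exact mem_top _)
  obtain ⟨z, hz⟩ : ∃ z : F, z = ⟨zz K, zF K hK⟩ := ⟨_, rfl⟩
  have hzv : (z : G) = zz K := by rw [hz]
  have hzc : ∀ x : F, ((x * z * x⁻¹ : F) : G) = zz (cj (x : G) K) := by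
    intro x
    rw [hyp.zz_cj hK, ← hzv]
    rfl
  have hzM : z ∈ M := by
    rw [hM, hzv, e.cj_eq hK rfl]
    exact Cl.refl K
  have hz2 : orderOf z = 2 := by
    rw [← Subgroup.orderOf_coe, hzv]
    exact hyp.orderOf_zz hK
  obtain ⟨H, hH⟩ := hc M hMt z hz2 hzM (by rw [hz]; exact exists_syl e f no one zF hK) (by
    intro x hx
    rw [hM]
    -- two 2-elements of `M`
    have h1 : zpowers (zz K) ≤ M.map F.subtype := by
      rw [zpowers_le]
      exact ⟨z, hzM, hzv⟩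
    have h2 : zpowers (zz (cj (x : G) K)) ≤ M.map F.subtype := by
      rw [zpowers_le]
      exact ⟨_, hx, hzc x⟩
    have hxK := hyp.conj K hK (x : G)
    obtain ⟨T1, hT1, hl1⟩ := LB.exists_syl_ge (isPGroup_zz e hK) h1
    obtain ⟨T2, hT2, hl2⟩ := LB.exists_syl_ge (isPGroup_zz e hxK) h2
    obtain ⟨m, hm, hmT⟩ := hT1.exists_conj hT2
    obtain ⟨m, hm, rfl⟩ := hm
    have h3 : zz (cj (m : G) K) ∈ T2 := by
      rw [hyp.zz_cj hK, ← hmT]
      exact conj_mem_cj (hl1 (mem_zpowers _))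
    have h4 := e.chain T2 hT2.2.1 _ (hyp.conj K hK m) _ hxK h3 (hl2 (mem_zpowers _)) (no _ (hyp.conj K hK m) _ hxK)
    exact Cl.trans ((hM m).1 hm) h4) (by
    intro x hx hne c hc1
    have hxK := hyp.conj K hK (x : G)
    rw [hM]
    have h1 : Lkd Om K (cj (x : G) K) := by
      refine lkd_of e no hK hxK ?_ ?_
      · intro hh
        apply hne
        apply Subtype.ext
        rw [hzc, ← hh, hzv]
      · rw [← hzc, ← hzv]
        exact congrArg Subtype.val hx.eq
    obtain ⟨N, hKN, -, hzN, -⟩ := e.third _ _ h1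
    have h2 : cj (c : G) N = N := by
      apply e.cj_eq hKN.mL
      rw [hzN, ← hzc, ← hzv]
      exact congrArg Subtype.val (mem_centralizer_singleton_iff.1 hc1)
    have h3 := Cl.step hKN
    have h4 := Cl.cj hyp h3.symm c
    rw [h2] at h4
    exact Cl.trans h3 h4)
  exact hse H hH

/-- **one class of linked members** -/
theorem conn_of (hse : ∀ H : Subgroup F, ¬ IsStronglyEmbedded H) (hc : CloEnd.Crit1175 F) (hK : K ∈ Om) (hL : L ∈ Om) :
    Cl Om K L := by
  have hyp := e.cvw.hyp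
  obtain ⟨T1, hT1, hl1⟩ := LB.exists_syl_ge (isPGroup_zz e hK) (zpowers_le.2 (zF K hK))
  obtain ⟨T2, hT2, hl2⟩ := LB.exists_syl_ge (isPGroup_zz e hL) (zpowers_le.2 (zF L hL))
  obtain ⟨g, hg, hgT⟩ := hT1.exists_conj hT2
  have h3 : zz (cj g K) ∈ T2 := by
    rw [hyp.zz_cj hK, ← hgT]
    exact conj_mem_cj (hl1 (mem_zpowers _))
  have h4 := e.chain T2 hT2.2.1 _ (hyp.conj K hK g) _ hL h3 (hl2 (mem_zpowers _)) (no _ (hyp.conj K hK g) _ hL)
  exact Cl.trans (cl_F e f no one zF hse hc hK hg) h4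

end world

end Cfsg.Agent.Cit.Nil.CVA2
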