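import Cfsg.Agent.Cit.Nil.CVA2.Defs
import Cfsg.Agent.Cit.Nil.CV1.Basic
import Cfsg.Agent.SignalizersComponents.PCompCore

/-!
# (6b)(CV), components of type `A2`: the end, part A: blocks

`EW Om U` : the facts (E), F5, CONN.  `BB Om K` : the members in the class of `K` or orthogonal to `K`;
`BS Om S` : the members whose class meets `S`.
`EW.bs_eq` : `BS Om S = BB Om K` if `zz K ∈ S`; `EW.bb_eq` : the sets `BB Om K` form a partition;
`ST B` : the stabiliser; `EW.exists_syl` : a 2-subgroup of `ST (BB Om K)` is contained in `S`, `BS Om S = BB Om K`;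
`EW.cent_le` = G1; `EW.mem_of` = G2.
-/

set_option autoImplicit false
set_option linter.style.haveILetI false
set_option linter.unusedSectionVars false

namespace Cfsg.Agent.Cit.Nil.CVA2

open Subgroup Cfsg Cit Tau CV CV1 CVT

variable {G : Type*} [Group G] {Om : Set (Subgroup G)} {U : Subgroup G → Subgroup G}
  {A H K L M N R S T X K' L' : Subgroup G} {e g s t u x y : G} {B : Set (Subgroup G)}

/-- the members in the class of `K` or orthogonal to `K` -/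
def BB (Om : Set (Subgroup G)) (K : Subgroup G) : Set (Subgroup G) := {M | M ∈ Om ∧ (Cl Om K M ∨ Orth K M)}

/-- the members whose class meets `S` -/
def BS (Om : Set (Subgroup G)) (S : Subgroup G) : Set (Subgroup G) := {M | M ∈ Om ∧ ∃ L ∈ Om, zz L ∈ S ∧ Cl Om M L}

/-- the stabiliser of a set of subgroups -/
def ST (B : Set (Subgroup G)) : Subgroup G where
  carrier := {g | cj g '' B = B}
  mul_mem' := by
    intro a b ha hb
    rw [Set.mem_ofPred_eq] at ha hb ⊢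
    conv_rhs => rw [← ha, ← hb]
    rw [← Set.image_comp]
    congr 1
    funext K
    exact cj_mul a b K
  one_mem' := by
    rw [Set.mem_ofPred_eq]
    have : (cj (1 : G) : Subgroup G → Subgroup G) = id := by funext K; exact cj_one K
    rw [this, Set.image_id]
  inv_mem' := by
    intro a ha
    rw [Set.mem_ofPred_eq] at ha ⊢
    conv_lhs => rw [← ha]
    rw [← Set.image_comp]
    have : (cj a⁻¹ ∘ cj a : Subgroup G → Subgroup G) = id := by funext K; exact cj_inv_cj a K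
    rw [this, Set.image_id]

theorem mem_ST : g ∈ ST B ↔ cj g '' B = B := Iff.rfl

/-- the world of the end -/
structure EW (Om : Set (Subgroup G)) (U : Subgroup G → Subgroup G) : Prop where
  el : Elem Om U
  f5 : ∀ K L M, Lkd Om K L → M ∈ Om → Orth K M → Orth L M
  conn : ∀ u : G, orderOf u = 2 → ∀ K ∈ Om, K ≤ centralizer {u} →
    ∃ X, SNC (centralizer {u}) K X ∧ ∀ L ∈ BL K X, Cl Om K L

variable [Finite G]

theorem sylow_of_syl (hS : Syl S ⊤) : ∃ T : Sylow 2 G, (T : Subgroup G) = S := by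
  haveI : Fact (Nat.Prime 2) := ⟨Nat.prime_two⟩
  have h1 : ¬ 2 ∣ S.index := by rw [← relIndex_top_right]; exact hS.2.2
  exact ⟨hS.2.1.toSylow h1, rfl⟩

theorem syl_of_sylow (T : Sylow 2 G) : Syl (T : Subgroup G) ⊤ := by
  haveI : Fact (Nat.Prime 2) := ⟨Nat.prime_two⟩
  refine ⟨le_top, T.isPGroup', ?_⟩
  rw [relIndex_top_right]
  exact T.not_dvd_index

theorem syl_cj' (hS : Syl S ⊤) (g : G) : Syl (cj g S) ⊤ := by
  have := hS.cj g
  rwa [cj_top] at this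

/-- 2-subgroups of a subnormal subgroup `X` of `H` are `X`-conjugate into a Sylow subgroup `R` of `H` -/
theorem exists_conj_sub (hR : Syl R H) (hX : X ≤ H) (hs : (X.subgroupOf H).IsSubnormal) (hK : IsPGroup 2 K)
    (hKX : K ≤ X) : ∃ l ∈ X, cj l K ≤ R := by
  have h1 : ¬ 2 ∣ (R ⊓ X).relIndex X := by
    intro h2
    apply hR.2.2
    have h3 := Cfsg.Agent.SignalizersComponents.PCompCore.relIndex_dvd_index_of_subnormal (R.subgroupOf H) hs
    rw [relIndex_subgroupOf hX] at h3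
    rw [inf_relIndex_right] at h2
    exact h2.trans h3
  have h2 : Syl (R ⊓ X) X := ⟨inf_le_right, hR.2.1.to_le inf_le_left, h1⟩
  obtain ⟨Q, hQ, hKQ⟩ := Cit.exists_syl_ge hK hKX
  obtain ⟨l, hl, hlQ⟩ := hQ.exists_conj h2
  refine ⟨l, hl, ?_⟩
  calc cj l K ≤ cj l Q := cj_mono l hKQ
    _ = R ⊓ X := hlQ
    _ ≤ R := inf_le_left

/-- commuting involutions in a common Sylow subgroup -/
theorem exists_syl_two (hx : x * x = 1) (hy : y * y = 1) (hc : x * y = y * x) (hH : x ∈ H) (hH' : y ∈ H) :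
    ∃ S, Syl S H ∧ x ∈ S ∧ y ∈ S := by
  have h2 : ∀ {x : G}, x * x = 1 → IsPGroup 2 (zpowers x) := by
    intro x hx
    rintro ⟨y, k, rfl⟩
    refine ⟨1, Subtype.ext ?_⟩
    change (x ^ k) ^ 2 ^ 1 = 1
    rw [pow_one, ← zpow_natCast, ← zpow_mul, mul_comm, zpow_mul, zpow_natCast, pow_two, hx, one_zpow]
  have h3 : IsPGroup 2 (zpowers y ⊔ zpowers x : Subgroup G) := by
    refine two_sup_comm (h2 hx) (h2 hy) ?_
    rintro _ ⟨i, rfl⟩ _ ⟨j, rfl⟩
    exact (Commute.zpow_zpow (show Commute x y from hc) i j).eq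
  obtain ⟨R, hR, hle⟩ := Cit.exists_syl_ge h3 (show zpowers y ⊔ zpowers x ≤ H from
    sup_le (zpowers_le.2 hH') (zpowers_le.2 hH))
  exact ⟨R, hR, hle (mem_sup_right (mem_zpowers x)), hle (mem_sup_left (mem_zpowers y))⟩

theorem cj_BS (hyp : Hyp Om) (g : G) : cj g '' BS Om S = BS Om (cj g S) := by
  have key : ∀ (g : G) (S : Subgroup G), cj g '' BS Om S ⊆ BS Om (cj g S) := by
    rintro g S _ ⟨M, ⟨hM, L, hL, hz, hc⟩, rfl⟩
    refine ⟨hyp.conj M hM g, cj g L, hyp.conj L hL g, ?_, hc.cj hyp g⟩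
    rw [zz_cj' hyp hL]
    exact conj_mem_cj hz
  refine Set.Subset.antisymm (key g S) ?_
  intro M hM
  have h1 := key g⁻¹ (cj g S) ⟨M, hM, rfl⟩
  rw [cj_inv_cj] at h1
  exact ⟨cj g⁻¹ M, h1, cj_cj_inv g M⟩

theorem cj_BB (hyp : Hyp Om) (g : G) : cj g '' BB Om K = BB Om (cj g K) := by
  have key : ∀ (g : G) (K : Subgroup G), cj g '' BB Om K ⊆ BB Om (cj g K) := by
    rintro g K _ ⟨M, ⟨hM, hc⟩, rfl⟩
    refine ⟨hyp.conj M hM g, ?_⟩
    rcases hc with hc | hc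
    · exact Or.inl (hc.cj hyp g)
    · exact Or.inr (orth_cj_iff.2 hc)
  refine Set.Subset.antisymm (key g K) ?_
  intro M hM
  have h1 := key g⁻¹ (cj g K) ⟨M, hM, rfl⟩
  rw [cj_inv_cj] at h1
  exact ⟨cj g⁻¹ M, h1, cj_cj_inv g M⟩

theorem self_mem_BB (hK : K ∈ Om) : K ∈ BB Om K := ⟨hK, Or.inl (Cl.refl K)⟩

namespace EW

variable (w : EW Om U)
include w

theorem hyp : Hyp Om := w.el.cvw.hyp

theorem orth_cl (h : Cl Om K L) (hM : M ∈ Om) (ho : Orth K M) : Orth L M := by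
  induction h with
  | refl => exact ho
  | tail _ h2 ih => exact w.f5 _ _ _ h2 hM ih

theorem not_orth (hL : L ∈ Om) (h : Cl Om K L) : ¬ Orth K L := fun ho => (w.orth_cl h hL ho).1 rfl

theorem order_zz (hK : K ∈ Om) : orderOf (zz K) = 2 :=
  orderOf_eq_prime (by rw [pow_two]; exact w.hyp.zz_mul hK) (w.hyp.zz_ne hK)

/-- the class of a member centralised by an involution `t` meets the Sylow subgroups of `C(t)` -/
theorem mem_BS (ht : orderOf t = 2) (hK : K ∈ Om) (hKt : K ≤ centralizer {t}) (hR : Syl R (centralizer {t}))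
    (hRS : R ≤ S) : K ∈ BS Om S := by
  obtain ⟨X, hX, hcl⟩ := w.conn t ht K hK hKt
  obtain ⟨l, hl, hle⟩ := exists_conj_sub hR hX.XH hX.sn (w.el.cvw.two K hK) hX.KX
  have hL := w.hyp.conj K hK l
  exact ⟨hK, cj l K, hL, hRS (hle (w.hyp.zz_mem hL)), hcl _ ⟨l, hl, rfl⟩⟩

theorem bs_sub (hS : IsPGroup 2 S) (hK : K ∈ Om) (hz : zz K ∈ S) : BS Om S ⊆ BB Om K := by
  rintro M ⟨hM, L, hL, hzL, hc⟩
  refine ⟨hM, ?_⟩
  by_cases ho : Orth K L
  · right
    exact Orth.symm' (w.orth_cl hc.symm hK (Orth.symm' ho))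
  · left
    exact (w.el.chain S hS K hK L hL hz hzL ho).trans hc.symm

/-- **(B)** -/
theorem bs_eq (hS : Syl S ⊤) (hK : K ∈ Om) (hz : zz K ∈ S) : BS Om S = BB Om K := by
  have hzz := w.hyp.zz_mul hK
  have hmem : zz K ∈ centralizer {zz K} := mem_centralizer_singleton_iff.2 rfl
  obtain ⟨R, hR, hzR, -⟩ := exists_syl_two hzz hzz rfl hmem hmem
  obtain ⟨S₀, hS₀, hRS⟩ := exists_top hR.2.1
  have h1 : BB Om K = BS Om S₀ := by
    refine Set.Subset.antisymm ?_ (w.bs_sub hS₀.2.1 hK (hRS hzR))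
    rintro M ⟨hM, hc | ho⟩
    · exact ⟨hM, K, hK, hRS hzR, hc.symm⟩
    · refine w.mem_BS (w.order_zz hK) hM ?_ hR hRS
      intro y hy
      exact mem_centralizer_singleton_iff.2 (ho.2 _ (w.hyp.zz_mem hK) y hy).symm
  obtain ⟨g, -, hg⟩ := hS₀.exists_conj hS
  refine Set.eq_of_subset_of_ncard_le (w.bs_sub hS.2.1 hK hz) ?_ (Set.toFinite _)
  rw [h1, ← hg, ← cj_BS w.hyp g, Set.ncard_image_of_injective _ (cj_injective g)]

theorem bb_eq (hK : K ∈ Om) (hM : M ∈ BB Om K) : BB Om M = BB Om K := by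
  have key : ∀ K ∈ Om, ∀ M ∈ Om, zz K * zz M = zz M * zz K → BB Om M = BB Om K := by
    intro K hK M hM hc
    obtain ⟨S, hS, h1, h2⟩ := exists_syl_two (w.hyp.zz_mul hK) (w.hyp.zz_mul hM) hc (mem_top (zz K)) (mem_top (zz M))
    rw [← w.bs_eq hS hM h2, ← w.bs_eq hS hK h1]
  obtain ⟨hM, hc | ho⟩ := hM
  · clear hM
    induction hc with
    | refl => rfl
    | tail _ h2 ih => rw [key _ h2.mK _ h2.mL h2.comm, ih]
  · exact key K hK M hM (ho.2 _ (w.hyp.zz_mem hK) _ (w.hyp.zz_mem hM))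

theorem mem_ST_BB (K : Subgroup G) : g ∈ ST (BB Om K) ↔ BB Om (cj g K) = BB Om K := by
  rw [mem_ST, cj_BB w.hyp]

theorem mem_ST_of (hK : K ∈ Om) (h : cj g K ∈ BB Om K) : g ∈ ST (BB Om K) := by
  rw [w.mem_ST_BB, w.bb_eq hK h]

theorem le_ST (hS : Syl S ⊤) (hK : K ∈ Om) (hz : zz K ∈ S) : S ≤ ST (BB Om K) := by
  intro g hg
  rw [mem_ST, ← w.bs_eq hS hK hz, cj_BS w.hyp, mem_normalizer_iff_cj.1 (le_normalizer hg)]

/-- **(M1)** -/
theorem exists_syl (hK : K ∈ Om) (hT : IsPGroup 2 T) (hTM : T ≤ ST (BB Om K)) :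
    ∃ S, Syl S ⊤ ∧ T ≤ S ∧ BS Om S = BB Om K := by
  have hzz := w.hyp.zz_mul hK
  obtain ⟨S₀, hS₀, hz, -⟩ := exists_syl_two hzz hzz rfl (mem_top (zz K)) (mem_top (zz K))
  have h1 := w.le_ST hS₀ hK hz
  have h2 : Syl S₀ (ST (BB Om K)) := by
    refine ⟨h1, hS₀.2.1, fun h3 => hS₀.2.2 ?_⟩
    rw [relIndex_top_right]
    exact h3.trans (relIndex_dvd_index_of_le h1)
  obtain ⟨S₁, hS₁, hTS⟩ := Cit.exists_syl_ge hT hTM
  obtain ⟨m, hm, rfl⟩ := h2.exists_conj hS₁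
  refine ⟨_, syl_cj' hS₀ m, hTS, ?_⟩
  rw [← cj_BS w.hyp, w.bs_eq hS₀ hK hz]
  exact hm

theorem exists_syl_elt (hK : K ∈ Om) (hx : x * x = 1) (hxM : x ∈ ST (BB Om K)) :
    ∃ S, Syl S ⊤ ∧ x ∈ S ∧ BS Om S = BB Om K := by
  obtain ⟨T, hT, hxT, -⟩ := exists_syl_two hx hx rfl hxM hxM
  obtain ⟨S, hS, hTS, h1⟩ := w.exists_syl hK hT.2.1 hT.1
  exact ⟨S, hS, hTS hxT, h1⟩

/-- **(G1')** -/
theorem bb_eq_of_cent (ht : orderOf t = 2) (hK : K ∈ Om) (hKt : K ≤ centralizer {t}) (hL : L ∈ Om)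
    (hLt : L ≤ centralizer {t}) : BB Om L = BB Om K := by
  obtain ⟨R, hR, hKR⟩ := Cit.exists_syl_ge (w.el.cvw.two K hK) hKt
  obtain ⟨S, hS, hRS⟩ := exists_top hR.2.1
  have h1 := w.mem_BS ht hL hLt hR hRS
  rw [w.bs_eq hS hK (hRS (hKR (w.hyp.zz_mem hK)))] at h1
  exact w.bb_eq hK h1

/-- **(G1)** -/
theorem cent_le (ht : orderOf t = 2) (hK : K ∈ Om) (hKt : K ≤ centralizer {t}) :
    centralizer {t} ≤ ST (BB Om K) := by
  intro c hc
  rw [w.mem_ST_BB]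
  refine w.bb_eq_of_cent ht hK hKt (w.hyp.conj K hK c) ?_
  have h1 : cj c (centralizer {t}) = centralizer {t} := mem_normalizer_iff_cj.1 (le_normalizer hc)
  rw [← h1]
  exact cj_mono c hKt

/-! ### representatives in `A` -/

theorem zz_mem_A (hK : K ∈ Om) (hKA : U K ≤ A) : zz K ∈ A := by
  obtain ⟨v, hv, hv4⟩ := w.el.cvw.exists_v hK
  rw [← w.el.cvw.sq_eq hK hv hv4]
  exact A.mul_mem (hKA hv) (hKA hv)

theorem rep_of (hS : Syl S ⊤) (hK : K ∈ BS Om S) : ∃ L ∈ Om, U L ≤ WW Om U S ∧ Cl Om K L := by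
  obtain ⟨T, rfl⟩ := sylow_of_syl hS
  obtain ⟨hK, L, hL, hzL, hc⟩ := hK
  obtain ⟨L', hL', hU, ho⟩ := w.el.rep T L hL hzL
  exact ⟨L', hL', hU, hc.trans (w.el.chain T hS.2.1 L hL L' hL' hzL (WW_le _ (w.zz_mem_A hL' hU)) ho)⟩

theorem isA (hS : Syl S ⊤) : IsA Om U (WW Om U S) := by
  obtain ⟨T, rfl⟩ := sylow_of_syl hS
  exact ⟨T, rfl⟩

/-- an element `g ∈ S` fixing the class of `K ∈ BS Om S` commutes with some `zz L`, `L` in this class -/
theorem fix_of (hS : Syl S ⊤) (hg : g ∈ S) (hK : K ∈ BS Om S) (hc : Cl Om K (cj g K)) :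
    ∃ L ∈ Om, Cl Om K L ∧ zz L ∈ WW Om U S ∧ g * zz L = zz L * g := by
  obtain ⟨L, hL, hU, hKL⟩ := w.rep_of hS hK
  have h1 : Cl Om L (cj g L) := hKL.symm.trans (hc.trans (hKL.cj w.hyp g))
  have h2 := w.not_orth (w.hyp.conj L hL g) h1
  obtain ⟨T, rfl⟩ := sylow_of_syl hS
  obtain ⟨L', hL', hU', hc', hg'⟩ := w.el.fixz T g hg L hL hU h2
  exact ⟨L', hL', hKL.trans hc', w.zz_mem_A hL' hU', hg'⟩

/-- **(G2)**, main step: an involution centralising a member of another block is not contained in `ST (BB Om K)` -/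
theorem block_eq (hK : K ∈ Om) (hu : orderOf u = 2) (hL : L ∈ Om) (hLu : L ≤ centralizer {u})
    (huM : u ∈ ST (BB Om K)) (hg : ∃ g, L = cj g K) : BB Om L = BB Om K := by
  classical
  by_contra hne
  obtain ⟨g, rfl⟩ := hg
  have huu : u * u = 1 := by rw [← pow_two, ← hu, pow_orderOf_eq_one]
  have hC := w.cent_le hu hL hLu
  obtain ⟨S, hS, huS, hSB⟩ := w.exists_syl_elt hK huu huM
  obtain ⟨T, hTS⟩ := sylow_of_syl hS
  have hA := w.isA hS
  -- the two blocks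
  have hdiff : ∀ {M : Subgroup G}, M ∈ Om → zz M ∈ ST (BB Om K) → zz M ∈ ST (BB Om (cj g K)) → False := by
    intro M hM h1 h2
    obtain ⟨S₁, hS₁, hz₁, e1⟩ := w.exists_syl_elt hK (w.hyp.zz_mul hM) h1
    obtain ⟨S₂, hS₂, hz₂, e2⟩ := w.exists_syl_elt hL (w.hyp.zz_mul hM) h2
    apply hne
    rw [← e1, ← e2, w.bs_eq hS₁ hM hz₁, w.bs_eq hS₂ hM hz₂]
  have hSle : S ≤ ST (BB Om K) := by
    intro x hx
    rw [mem_ST, ← hSB, cj_BS w.hyp, mem_normalizer_iff_cj.1 (le_normalizer hx)]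
  -- a maximal set of pairwise orthogonal members of `A`
  obtain ⟨J, hJ⟩ := (Set.toFinite {J : Finset (Subgroup G) | (∀ K ∈ J, K ∈ Om ∧ U K ≤ WW Om U S) ∧
    ∀ K ∈ J, ∀ L ∈ J, K ≠ L → Orth K L}).exists_maximal ⟨∅, by simp, by simp⟩
  have hJmax : ∀ L ∈ Om, U L ≤ WW Om U S → ∃ M ∈ J, Cl Om L M := by
    intro L hL hU
    by_contra hcon
    push Not at hcon
    have h1 : ∀ M ∈ J, Orth L M := by
      intro M hM
      by_contra ho
      exact hcon M hM (w.el.chain S hS.2.1 L hL M (hJ.prop.1 M hM).1 (WW_le _ (w.zz_mem_A hL hU))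
        (WW_le _ (w.zz_mem_A (hJ.prop.1 M hM).1 (hJ.prop.1 M hM).2)) ho)
    have h2 : L ∉ J := fun h3 => (h1 L h3).1 rfl
    have h3 : insert L J ≤ J := by
      refine hJ.le_of_ge ⟨?_, ?_⟩ (Finset.subset_insert _ _)
      · intro M hM
        rcases Finset.mem_insert.1 hM with rfl | hM
        · exact ⟨hL, hU⟩
        · exact hJ.prop.1 M hM
      · intro M hM N hN hMN
        rcases Finset.mem_insert.1 hM with e1 | hM' <;> rcases Finset.mem_insert.1 hN with e2 | hN'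
        · exact absurd (e1.trans e2.symm) hMN
        · rw [e1]; exact h1 N hN'
        · rw [e2]; exact Orth.symm' (h1 M hM')
        · exact hJ.prop.2 M hM' N hN' hMN
    exact h2 (h3 (Finset.mem_insert_self L J))
  have hJB : ∀ M ∈ BB Om K, ∃ N ∈ J, Cl Om M N := by
    intro M hM
    rw [← hSB] at hM
    obtain ⟨M', hM', hU', hc⟩ := w.rep_of hS hM
    obtain ⟨N, hN, hc'⟩ := hJmax M' hM' hU'
    exact ⟨N, hN, hc.trans hc'⟩
  have hJB' : ∀ M ∈ BB Om (cj g K), ∃ N ∈ J.image (cj g), Cl Om M N := by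
    intro M hM
    rw [← cj_BB w.hyp] at hM
    obtain ⟨M', hM', rfl⟩ := hM
    obtain ⟨N, hN, hc⟩ := hJB M' hM'
    exact ⟨cj g N, Finset.mem_image_of_mem _ hN, hc.cj w.hyp g⟩
  -- `u` fixes no component of `A`
  have hnS : S ≤ normalizer (WW Om U S : Set G) := le_normalizer.trans (w.el.cvw.normalizer_le S)
  have hcount := w.el.count _ hA u (hnS huS) huu J hJ.prop.1 hJ.prop.2
  obtain ⟨K₁, hK₁⟩ : ∃ K₁, K₁ ∈ BB Om K := ⟨K, self_mem_BB hK⟩
  obtain ⟨K₂, hK₂, hU₂, -⟩ := w.rep_of hS (hSB ▸ hK₁)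
  -- the elements of `C_A(u)` of order 2 fix no class of the other block
  have hfree : ∀ e ∈ WW Om U S, e * e = 1 → u * e = e * u → e ≠ 1 → ∀ M ∈ BB Om (cj g K), ¬ Cl Om M (cj e M) := by
    intro e heA hee heu he1 M hM hc
    have he2 : orderOf e = 2 := orderOf_eq_prime (by rw [pow_two]; exact hee) he1
    have heM' : e ∈ ST (BB Om (cj g K)) := hC (mem_centralizer_singleton_iff.2 heu.symm)
    obtain ⟨S₂, hS₂, heS₂, hB₂⟩ := w.exists_syl_elt hL hee heM'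
    obtain ⟨L₃, hL₃, hc₃, -, he₃⟩ := w.fix_of hS₂ heS₂ (hB₂ ▸ hM) hc
    obtain ⟨L₄, hL₄, hU₄, -, he₄⟩ := w.el.cent _ hA e heA hee K₂ hK₂ hU₂
    have h5 : BB Om L₄ = BB Om K := by rw [← hSB, w.bs_eq hS hL₄ (WW_le _ (w.zz_mem_A hL₄ hU₄))]
    have h6 : L₄ ≤ centralizer {e} := fun x hx => mem_centralizer_singleton_iff.2 (he₄ x hx)
    have h7 := w.cent_le he2 hL₄ h6
    rw [h5] at h7
    refine hdiff hL₃ (h7 (mem_centralizer_singleton_iff.2 he₃.symm)) ?_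
    have h8 : BB Om L₃ = BB Om (cj g K) := by
      rw [← w.bb_eq hL hM]
      exact w.bb_eq hM.1 ⟨hL₃, Or.inl hc₃⟩
    obtain ⟨S₃, hS₃, hz₃, -⟩ := exists_syl_two (w.hyp.zz_mul hL₃) (w.hyp.zz_mul hL₃) rfl (mem_top (zz L₃)) (mem_top (zz L₃))
    rw [← h8]
    exact w.le_ST hS₃ hL₃ hz₃ hz₃
  -- counting
  have hL' := self_mem_BB hL
  have hch : ∀ e : {e : G // e ∈ WW Om U S ∧ e * e = 1 ∧ u * e = e * u}, ∃ N : {N // N ∈ J.image (cj g)},
      Cl Om (cj (e : G) (cj g K)) N := by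
    intro e
    have h1 : (e : G) ∈ ST (BB Om (cj g K)) := hC (mem_centralizer_singleton_iff.2 e.2.2.2.symm)
    have h2 : cj (e : G) (cj g K) ∈ BB Om (cj g K) := by
      rw [mem_ST] at h1
      rw [← h1]
      exact ⟨_, hL', rfl⟩
    obtain ⟨N, hN, hc⟩ := hJB' _ h2
    exact ⟨⟨N, hN⟩, hc⟩
  choose f hf using hch
  have hinj : Function.Injective f := by
    intro e₁ e₂ h1
    have h2 : Cl Om (cj (e₁ : G) (cj g K)) (cj (e₂ : G) (cj g K)) := (hf e₁).trans (h1 ▸ (hf e₂).symm)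
    have h3 := h2.cj w.hyp (e₁ : G)⁻¹
    rw [cj_inv_cj, ← cj_mul] at h3
    by_contra hne'
    have hcA : (e₁ : G) * e₂ = e₂ * e₁ := w.el.cvw.comm hA e₁.2.1 e₂.2.1
    have hi : (e₁ : G)⁻¹ = e₁ := inv_eq_of_mul_eq_one_right e₁.2.2.1
    rw [hi] at h3
    refine hfree ((e₁ : G) * e₂) (mul_mem e₁.2.1 e₂.2.1) ?_ ?_ ?_ _ hL' h3
    · calc (e₁ : G) * e₂ * (e₁ * e₂) = e₁ * (e₂ * e₁) * e₂ := by group
        _ = (e₁ * e₁) * (e₂ * e₂) := by rw [← hcA]; group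
        _ = 1 := by rw [e₁.2.2.1, e₂.2.2.1, one_mul]
    · rw [← mul_assoc, e₁.2.2.2, mul_assoc, e₂.2.2.2, mul_assoc]
    · intro h4
      apply hne'
      apply Subtype.ext
      rw [← hi]
      exact inv_eq_of_mul_eq_one_right h4
  have h1 := Nat.card_le_card_of_injective f hinj
  have h2 : Nat.card {N // N ∈ J.image (cj g)} ≤ J.card := by
    rw [Nat.card_eq_fintype_card, Fintype.card_coe]
    exact Finset.card_image_le
  have h3 : J.card < 2 ^ J.card := Nat.lt_two_pow_self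
  omega

/-- **(G2)** -/
theorem mem_of (hK : K ∈ Om) (hu : orderOf u = 2) (hKu : K ≤ centralizer {u}) (hg : g * u * g⁻¹ ∈ ST (BB Om K)) :
    g ∈ ST (BB Om K) := by
  rw [w.mem_ST_BB]
  refine w.block_eq hK (u := g * u * g⁻¹) ?_ (w.hyp.conj K hK g) ?_ hg ⟨g, rfl⟩
  · rw [← MulAut.conj_apply, MulEquiv.orderOf_eq]; exact hu
  · rintro x hx
    rw [mem_cj] at hx
    have h1 := mem_centralizer_singleton_iff.1 (hKu hx)
    rw [mem_centralizer_singleton_iff]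
    calc x * (g * u * g⁻¹) = g * ((g⁻¹ * x * g) * u) * g⁻¹ := by group
      _ = g * (u * (g⁻¹ * x * g)) * g⁻¹ := by rw [h1]
      _ = g * u * g⁻¹ * x := by group

end EW

end Cfsg.Agent.Cit.Nil.CVA2
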