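import Cfsg.Agent.Cit.Nil.CVA2.Defs
import Cfsg.Agent.Cit.Nil.CVA.Tri

/-!
# (6b)(CV), components of type `A2`: lifting from central quotients of subgroups

`LX Om U X K f` : `X ≤ G` with the class of `K` is a world `TW` without orthogonal members, `f : X → X'` is surjective with
central kernel, a 2-group not containing `zz K`.

* `LX.lift` : if the images of `zz L`, `zz M` commute, then `zz L`, `zz M` commute;
* `LX.lift_eq` : if the images of `zz L`, `zz M` are equal, then `L = M`;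
* `LX.aw` : the image is a world of type `A2`.
-/

set_option autoImplicit false
set_option linter.style.haveILetI false
set_option linter.unusedSectionVars false

namespace Cfsg.Agent.Cit.Nil.CVA2

open Subgroup Cfsg Cit Tau CV CV1 CVT

universe u v

section generic

variable {G : Type*} [Group G] [Finite G] {Om : Set (Subgroup G)} {U : Subgroup G → Subgroup G}
  {A K L M N T X : Subgroup G} {g v w x y : G}

theorem isPGroup_zpowers_of_four (hv4 : orderOf v = 4) : IsPGroup 2 (zpowers v) := by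
  haveI : Fact (Nat.Prime 2) := ⟨Nat.prime_two⟩
  refine IsPGroup.of_card_dvd_pow (n := 2) ?_
  rw [Nat.card_zpowers, hv4]
  norm_num

/-- two commuting elements of order 4 in the chosen subgroups lie in a common `A` -/
theorem exists_common (_h : CVW Om U) (hK : K ∈ Om) (hv : v ∈ U K) (hv4 : orderOf v = 4) (hL : L ∈ Om) (hw : w ∈ U L)
    (hw4 : orderOf w = 4) (hc : v * w = w * v) : ∃ A, IsA Om U A ∧ v ∈ RR Om U A ∧ w ∈ RR Om U A := by
  have h2 : IsPGroup 2 (zpowers v ⊔ zpowers w : Subgroup G) := by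
    refine (isPGroup_zpowers_of_four hv4).to_sup_of_normal_right' (isPGroup_zpowers_of_four hw4) ?_
    rw [zpowers_le, mem_normalizer_iff]
    have hcz : ∀ y ∈ zpowers w, v * y = y * v := by
      intro y hy
      obtain ⟨i, rfl⟩ := mem_zpowers_iff.1 hy
      exact (Commute.zpow_right (show Commute v w from hc) i).eq
    intro y
    constructor
    · intro hy
      rwa [hcz y hy, mul_inv_cancel_right]
    · intro hy
      have h3 := hcz _ hy
      have h4 : v * y * v⁻¹ = y := by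
        have h5 : v⁻¹ * (v * (v * y * v⁻¹)) * v = v⁻¹ * (v * y * v⁻¹ * v) * v := by rw [h3]
        have h6 : v⁻¹ * (v * (v * y * v⁻¹)) * v = v * y := by group
        have h7 : v⁻¹ * (v * y * v⁻¹ * v) * v = y * v := by group
        rw [h6, h7] at h5
        rw [h5, mul_inv_cancel_right]
      rwa [h4] at hy
  obtain ⟨S, hS⟩ := h2.exists_le_sylow
  refine ⟨WW Om U (S : Subgroup G), ⟨S, rfl⟩, ?_, ?_⟩
  · rw [RR_WW]
    exact ⟨hS (mem_sup_left (mem_zpowers v)), hv4, K, hK, hv⟩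
  · rw [RR_WW]
    exact ⟨hS (mem_sup_right (mem_zpowers w)), hw4, L, hL, hw⟩

/-- roots of different non orthogonal members are linked -/
theorem lk_of (h : CVW Om U) (hA : IsA Om U A) (hK : K ∈ Om) (hv : v ∈ U K) (hvA : v ∈ RR Om U A) (hL : L ∈ Om)
    (hw : w ∈ U L) (hwA : w ∈ RR Om U A) (hne : K ≠ L) (hno : ¬ Orth K L) : Lk Om U v w := by
  refine ⟨fun h0 => hno ?_, fun h2 => hne ?_⟩
  · exact h.comm_of_al_zero hA hK hv hvA.2.1 hvA.1 hL hw hwA.2.1 hwA.1 h0
  · rcases h.al_two hA hvA hwA h2 with h3 | h3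
    · exact h.eq_of_mem hK hL hv (by rw [← h3]; exact hw) hvA.2.1
    · exact h.eq_of_mem hK hL ((U K).inv_mem hv) (by rw [← h3]; exact hw) (by rw [orderOf_inv]; exact hvA.2.1)

end generic

section core

variable {G : Type u} [Group G] [Finite G] {K : Subgroup G} {U : Subgroup G → Subgroup G}

/-- `O_2(G)` is central if `zz K ∉ O_2(G)` -/
theorem core_central (h : TW K U) (hz : zz K ∉ pCore 2 G) : pCore 2 G ≤ center G := by
  haveI : Fact (Nat.Prime 2) := ⟨Nat.prime_two⟩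
  have hK : K ∈ cls K := self_mem_cls K
  have hPn : (pCore 2 G).Normal := Lib.Cores.pCore_normal 2
  have h1 : K ≤ centralizer (pCore 2 G : Set G) := by
    intro k hk
    rw [mem_centralizer_iff]
    intro n hn
    exact (h.cvw.hyp.lemma_one hK (h.cvw.two K hK) (Lib.Cores.pCore_isPGroup 2)
      (by rw [normalizer_eq_top_iff.2 hPn]; exact le_top) hz k hk n hn).symm
  have h2 : centralizer (pCore 2 G : Set G) = ⊤ := by
    rw [eq_top_iff, ← h.gen]
    exact normalClosure_le_normal h1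
  intro x hx
  rw [mem_center_iff]
  intro g
  have h3 : g ∈ centralizer (pCore 2 G : Set G) := by rw [h2]; exact mem_top g
  exact (mem_centralizer_iff.1 h3 x hx).symm

/-- `zz K ∉ O_2` passes to the quotient by `O_2` -/
theorem not_mem_pCore_quot (h : TW K U) (hz : zz K ∉ pCore 2 G) {G' : Type*} [Group G'] [Finite G'] {f : G →* G'}
    (_hf : Function.Surjective f) (hker : f.ker = pCore 2 G) : zz (K.map f) ∉ pCore 2 G' := by
  haveI : Fact (Nat.Prime 2) := ⟨Nat.prime_two⟩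
  intro h3
  apply hz
  have hK : K ∈ cls K := self_mem_cls K
  have hinf : K ⊓ f.ker = ⊥ := by
    rw [hker]
    exact CVW.inf_eq_bot h.cvw hK hz
  rw [QuoCen.zz_map_of_inf h.cvw.hyp hK hinf] at h3
  have h5 : (pCore 2 G').comap f ≤ pCore 2 G := by
    refine Lib.Cores.le_pCore ((Lib.Cores.pCore_normal 2).comap _) ?_
    refine (Lib.Cores.pCore_isPGroup 2).comap_of_ker_isPGroup _ ?_
    rw [hker]
    exact Lib.Cores.pCore_isPGroup 2
  exact h5 h3

end core

/-- the lifting context -/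
structure LX {G : Type u} [Group G] (Om : Set (Subgroup G)) (U : Subgroup G → Subgroup G) (X K : Subgroup G)
    {X' : Type v} [Group X'] (f : X →* X') : Prop where
  e : Elem Om U
  hK : K ∈ Om
  KX : K ≤ X
  tw : TW (K.subgroupOf X) (uH X U)
  no : ∀ L ∈ cls (K.subgroupOf X), ∀ M ∈ cls (K.subgroupOf X), ¬ Orth L M
  sur : Function.Surjective f
  cen : f.ker ≤ center X
  two : IsPGroup 2 f.ker
  hz : zz (K.subgroupOf X) ∉ f.ker

namespace LX

variable {G : Type u} [Group G] [Finite G] {Om : Set (Subgroup G)} {U : Subgroup G → Subgroup G} {X K : Subgroup G}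
  {X' : Type v} [Group X'] {f : X →* X'} {L M N : Subgroup X}

variable (c : LX Om U X K f)

include c

theorem mem (hL : L ∈ cls (K.subgroupOf X)) : L.map X.subtype ∈ Om := by
  obtain ⟨g, -, h1⟩ := map_cls_subgroupOf c.KX hL
  rw [h1]
  exact c.e.cvw.hyp.conj K c.hK g

theorem zz0 (hL : L ∈ cls (K.subgroupOf X)) : ((zz L : X) : G) = zz (L.map X.subtype) :=
  zz_map c.e.cvw.hyp (c.mem hL)

theorem ne_map (hne : L ≠ M) : L.map X.subtype ≠ M.map X.subtype := fun h =>
  hne (Subgroup.map_injective X.subtype_injective h)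

theorem orth_of (h : Orth (L.map X.subtype) (M.map X.subtype)) : Orth L M :=
  ⟨fun h1 => h.1 (by rw [h1]), fun x hx y hy =>
    Subtype.ext (h.2 x (mem_map_of_mem _ hx) y (mem_map_of_mem _ hy))⟩

/-- members of the class with commuting `zz` are linked -/
theorem lkd (hL : L ∈ cls (K.subgroupOf X)) (hM : M ∈ cls (K.subgroupOf X)) (hne : L ≠ M)
    (hc : zz L * zz M = zz M * zz L) : Lkd Om (L.map X.subtype) (M.map X.subtype) where
  mK := c.mem hL
  mL := c.mem hM
  ne := c.ne_map hne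
  comm := by
    rw [← c.zz0 hL, ← c.zz0 hM, ← Subgroup.coe_mul, hc, Subgroup.coe_mul]
  north := fun h => c.no L hL M hM (c.orth_of h)

/-- a member linked to a member of the class has no central `zz` -/
theorem not_central {N : Subgroup G} {ζ : X} (_hL : L ∈ cls (K.subgroupOf X)) (hζ : (ζ : G) = zz N)
    (hζc : ζ ∈ center X) (hl : Lkd Om N (L.map X.subtype)) : False := by
  obtain ⟨y, ⟨y', hy', rfl⟩, hyn⟩ := c.e.moves _ _ hl
  apply hyn
  rw [← hζ]
  have h1 := mem_center_iff.1 hζc y'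
  exact congrArg Subtype.val h1

theorem zz_ne (hL : L ∈ cls (K.subgroupOf X)) (hM : M ∈ cls (K.subgroupOf X)) (hne : L ≠ M) : zz L ≠ zz M := by
  intro h
  apply hne
  apply Subgroup.map_injective X.subtype_injective
  refine c.e.inj _ (c.mem hL) _ (c.mem hM) ?_
  rw [← c.zz0 hL, ← c.zz0 hM, h]

/-- **lifting of equality** -/
theorem lift_eq (hL : L ∈ cls (K.subgroupOf X)) (hM : M ∈ cls (K.subgroupOf X)) (h : f (zz L) = f (zz M)) : L = M := by
  by_contra hne
  have hk : zz L * zz M ∈ f.ker := by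
    rw [MonoidHom.mem_ker, map_mul, h, ← map_mul, c.tw.cvw.hyp.zz_mul hM, map_one]
  have hkc := c.cen hk
  have hLL := c.tw.cvw.hyp.zz_mul hL
  have hMM := c.tw.cvw.hyp.zz_mul hM
  have hcomm : zz L * zz M = zz M * zz L := by
    have h1 := mem_center_iff.1 hkc (zz L)
    have h2 : zz L * (zz L * zz M) = zz M := by rw [← mul_assoc, hLL, one_mul]
    rw [h2] at h1
    calc zz L * zz M = zz L * zz M * zz L * zz L := by rw [mul_assoc (zz L * zz M), hLL, mul_one]
      _ = zz M * zz L := by rw [← h1]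
  obtain ⟨N, h1, h2, h3, -⟩ := c.e.third _ _ (c.lkd hL hM hne hcomm)
  refine c.not_central (N := N) (ζ := zz L * zz M) hL ?_ hkc h1.symm
  rw [h3, Subgroup.coe_mul, c.zz0 hL, c.zz0 hM]

/-- **lifting of commuting pairs** -/
theorem lift (hL : L ∈ cls (K.subgroupOf X)) (_hM : M ∈ cls (K.subgroupOf X))
    (h : f (zz L) * f (zz M) = f (zz M) * f (zz L)) : zz L * zz M = zz M * zz L := by
  obtain ⟨L', hL'⟩ : ∃ L', L' = cj (zz M) L := ⟨_, rfl⟩
  have hL'm : L' ∈ cls (K.subgroupOf X) := by rw [hL']; exact c.tw.cvw.hyp.conj L hL _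
  have hzz : zz L' = zz M * zz L * (zz M)⁻¹ := by rw [hL']; exact c.tw.cvw.hyp.zz_cj hL _
  have h1 : f (zz L') = f (zz L) := by
    rw [hzz, map_mul, map_mul, ← h, mul_assoc, ← map_mul f (zz M), mul_inv_cancel, map_one, mul_one]
  have h2 := c.lift_eq hL'm hL h1
  rw [h2] at hzz
  have h3 : zz L * zz M = zz M * zz L * (zz M)⁻¹ * zz M := by rw [← hzz]
  rw [h3]
  group

/-! ### The image -/

theorem inf_ker (hL : L ∈ cls (K.subgroupOf X)) : L ⊓ f.ker = ⊥ := by
  obtain ⟨g, rfl⟩ := hL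
  refine CVW.inf_eq_bot c.tw.cvw ⟨g, rfl⟩ fun h1 => c.hz ?_
  rw [c.tw.cvw.hyp.zz_cj (self_mem_cls _)] at h1
  have h3 := (f.normal_ker).conj_mem _ h1 g⁻¹
  have h4 : g⁻¹ * (g * zz (K.subgroupOf X) * g⁻¹) * g⁻¹⁻¹ = zz (K.subgroupOf X) := by group
  rwa [h4] at h3

theorem map_inj (hL : L ∈ cls (K.subgroupOf X)) (hM : M ∈ cls (K.subgroupOf X)) (h : L.map f = M.map f) : L = M :=
  CVT.CVW.eq_of_map_eq c.tw.cvw c.cen (fun _ h => c.inf_ker h) hL hM h

theorem zz_map' (hL : L ∈ cls (K.subgroupOf X)) : zz (L.map f) = f (zz L) :=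
  QuoCen.zz_map_of_inf c.tw.cvw.hyp hL (c.inf_ker hL)

theorem U_map (hL : L ∈ cls (K.subgroupOf X)) :
    imgU f (cls (K.subgroupOf X)) (uH X U) (L.map f) = (uH X U L).map f := by
  refine imgU_map ?_ hL
  intro A hA B hB h
  rw [c.map_inj hA hB h]

theorem exists_pre {L' : Subgroup X'} (hL : L' ∈ cls ((K.subgroupOf X).map f)) :
    ∃ L ∈ cls (K.subgroupOf X), L' = L.map f := by
  rw [← img_cls c.sur] at hL
  obtain ⟨L, h1, h2⟩ := hL
  exact ⟨L, h1, h2.symm⟩

/-- the chosen subgroups of members with commuting `zz` commute in the image -/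
theorem commV' (hL : L ∈ cls (K.subgroupOf X)) (hM : M ∈ cls (K.subgroupOf X)) (hc : zz L * zz M = zz M * zz L)
    {v w : X'} (hv : v ∈ imgU f (cls (K.subgroupOf X)) (uH X U) (L.map f))
    (hw : w ∈ imgU f (cls (K.subgroupOf X)) (uH X U) (M.map f)) : v * w = w * v := by
  rw [c.U_map hL] at hv
  rw [c.U_map hM] at hw
  obtain ⟨v₀, hv₀, rfl⟩ := hv
  obtain ⟨w₀, hw₀, rfl⟩ := hw
  rw [← map_mul, ← map_mul]
  congr 1
  apply Subtype.ext
  rw [Subgroup.coe_mul, Subgroup.coe_mul]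
  refine c.e.commV _ (c.mem hL) _ (c.mem hM) ?_ _ (mem_uH.1 hv₀) _ (mem_uH.1 hw₀)
  rw [← c.zz0 hL, ← c.zz0 hM, ← Subgroup.coe_mul, hc, Subgroup.coe_mul]

theorem tw' [Finite X'] : TW ((K.subgroupOf X).map f) (imgU f (cls (K.subgroupOf X)) (uH X U)) :=
  c.tw.quot c.sur c.cen c.two c.hz

/-- **the image is a world of type `A2`** -/
theorem aw [Finite X'] (hno : ∀ L' ∈ cls ((K.subgroupOf X).map f), ∀ M' ∈ cls ((K.subgroupOf X).map f), ¬ Orth L' M')
    (hex : ∃ L' ∈ cls ((K.subgroupOf X).map f), ∃ M' ∈ cls ((K.subgroupOf X).map f), L' ≠ M' ∧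
      zz L' * zz M' = zz M' * zz L') :
    CVA.AW (cls ((K.subgroupOf X).map f)) (imgU f (cls (K.subgroupOf X)) (uH X U)) := by
  have h' := c.tw'.cvw
  have one : ∀ A ∈ cls ((K.subgroupOf X).map f), ∀ B ∈ cls ((K.subgroupOf X).map f), ∃ g, B = cj g A := by
    rintro _ ⟨a, rfl⟩ _ ⟨b, rfl⟩
    exact ⟨b * a⁻¹, by rw [← cj_mul, inv_mul_cancel_right]⟩
  refine ⟨h', ?_⟩
  rcases h'.trich one ⟨_, self_mem_cls _⟩ with h1 | h1 | h1
  · exfalso
    obtain ⟨L', hL', M', hM', hne, hc⟩ := hex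
    obtain ⟨L, hL, rfl⟩ := c.exists_pre hL'
    obtain ⟨M, hM, rfl⟩ := c.exists_pre hM'
    rw [c.zz_map' hL, c.zz_map' hM] at hc
    have hcc := c.lift hL hM hc
    obtain ⟨v, hv, hv4⟩ := h'.exists_v hL'
    obtain ⟨w, hw, hw4⟩ := h'.exists_v hM'
    obtain ⟨A, hA, hvA, hwA⟩ := exists_common h' hL' hv hv4 hM' hw hw4 (c.commV' hL hM hcc hv hw)
    exact h1 A hA v hvA w hwA (lk_of h' hA hL' hv hvA hM' hw hwA hne (hno _ hL' _ hM'))
  · exact h1
  · exfalso
    obtain ⟨A, hA, v, hv⟩ := h'.exists_mem ⟨_, self_mem_cls _⟩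
    obtain ⟨w, hw, u, hu, hlw, hlu, n1, n2, n3, n4⟩ := h1 A hA v hv
    have hr := h'.rf_mem hA hv hw
    have hsq := h'.sq_rf hA hv hw hlw
    obtain ⟨hvA, hv4, V', hV', hvV⟩ := id hv
    obtain ⟨hwA, hw4, W', hW', hwW⟩ := id hw
    obtain ⟨huA, hu4, Z', hZ', huZ⟩ := id hu
    obtain ⟨hrA, hr4, R', hR', hrR⟩ := id hr
    -- the members are different
    have hself : ∀ {x y : X'} {Y : Subgroup X'}, Y ∈ cls ((K.subgroupOf X).map f) →
        x ∈ imgU f (cls (K.subgroupOf X)) (uH X U) Y → y ∈ imgU f (cls (K.subgroupOf X)) (uH X U) Y → orderOf x = 4 →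
        orderOf y = 4 → y = x ∨ y = x⁻¹ := fun hY hx hy hx4 hy4 => h'.eq_or_inv hY hx hx4 hy hy4
    have nVW : V' ≠ W' := by
      rintro rfl
      rcases hself hV' hvV hwW hv4 hw4 with h2 | h2
      · exact hlw.2 (by rw [h2, h'.al_self hA hv])
      · exact hlw.2 (by rw [h2, h'.al_inv hA hv hvA, h'.al_self hA hv]; decide)
    have nVZ : V' ≠ Z' := by
      rintro rfl
      rcases hself hV' hvV huZ hv4 hu4 with h2 | h2
      · exact hlu.2 (by rw [h2, h'.al_self hA hv])
      · exact hlu.2 (by rw [h2, h'.al_inv hA hv hvA, h'.al_self hA hv]; decide)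
    have nWZ : W' ≠ Z' := by
      rintro rfl
      rcases hself hW' hwW huZ hw4 hu4 with h2 | h2
      · exact n1 h2
      · exact n2 h2
    obtain ⟨V, hV, rfl⟩ := c.exists_pre hV'
    obtain ⟨W, hW, rfl⟩ := c.exists_pre hW'
    obtain ⟨Z, hZ, rfl⟩ := c.exists_pre hZ'
    obtain ⟨R, hR, rfl⟩ := c.exists_pre hR'
    have zV : v * v = f (zz V) := by rw [← c.zz_map' hV]; exact h'.sq_eq hV' hvV hv4
    have zW : w * w = f (zz W) := by rw [← c.zz_map' hW]; exact h'.sq_eq hW' hwW hw4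
    have zZ : u * u = f (zz Z) := by rw [← c.zz_map' hZ]; exact h'.sq_eq hZ' huZ hu4
    have zR := h'.sq_eq hR' hrR hr4
    rw [c.zz_map' hR] at zR
    have cVW := c.lift hV hW (by rw [← zV, ← zW]; exact h'.comm hA (A.mul_mem hvA hvA) (A.mul_mem hwA hwA))
    have cVZ := c.lift hV hZ (by rw [← zV, ← zZ]; exact h'.comm hA (A.mul_mem hvA hvA) (A.mul_mem huA huA))
    have cWZ := c.lift hW hZ (by rw [← zW, ← zZ]; exact h'.comm hA (A.mul_mem hwA hwA) (A.mul_mem huA huA))
    have lVW := c.lkd hV hW (fun h => nVW (by rw [h])) cVW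
    have lVZ := c.lkd hV hZ (fun h => nVZ (by rw [h])) cVZ
    have lWZ := c.lkd hW hZ (fun h => nWZ (by rw [h])) cWZ
    obtain ⟨N, lVN, lWN, hN, -⟩ := c.e.third _ _ lVW
    have cNZ : zz N * zz (Z.map X.subtype) = zz (Z.map X.subtype) * zz N := by
      rw [hN, mul_assoc, lWZ.comm, ← mul_assoc, lVZ.comm, mul_assoc]
    have hNZ : N = Z.map X.subtype := by
      rcases c.e.orth_or lVN.mL lVZ.mL cNZ with h2 | h2 | h2
      · exact h2
      · exact absurd h2 (c.e.link _ _ _ lVN lVZ cNZ)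
      · exact (c.e.four _ _ _ _ lVW lVN lVZ lWN lWZ h2).elim
    have hzZ : zz Z = zz V * zz W := by
      apply Subtype.ext
      rw [Subgroup.coe_mul, c.zz0 hZ, c.zz0 hV, c.zz0 hW, ← hNZ, hN]
    have hRZ : R = Z := by
      apply c.lift_eq hR hZ
      rw [← zR, hsq, zV, zW, hzZ, cVW, map_mul]
    subst hRZ
    rcases hself hR' hrR huZ hr4 hu4 with h2 | h2
    · exact n3 h2
    · exact n4 h2

end LX

end Cfsg.Agent.Cit.Nil.CVA2
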